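import Mathlib.AlgebraicGeometry.Morphisms.Etale
import Mathlib.AlgebraicGeometry.Pullbacks
import Mathlib.RingTheory.Etale.StandardEtale
import Mathlib.RingTheory.Unramified.LocalStructure
import Mathlib.Algebra.Polynomial.Lifts
import Mathlib.RingTheory.Polynomial.Basic

/-!
# Etale neighbourhoods lift along square-zero thickenings
-/

universe u

open CategoryTheory CategoryTheory.Limits AlgebraicGeometry TensorProduct Polynomial

namespace Groth.Agent.Lib.AlgSpFormal.EtaleLift

/-- Standard etale pairs lift along square-zero ideals. -/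
theorem exists_pair {A : Type u} [CommRing A] (I : Ideal A) (hI : I ^ 2 = ⊥)
    (P : StandardEtalePair (A ⧸ I)) :
    ∃ P' : StandardEtalePair A, P'.map (Ideal.Quotient.mk I) = P := by
  obtain ⟨f, hf, g, p₁, p₂, n, e⟩ := P
  have hs : Function.Surjective (Polynomial.map (Ideal.Quotient.mk I)) :=
    Polynomial.map_surjective _ Ideal.Quotient.mk_surjective
  obtain ⟨F, rfl, -, hF⟩ := Polynomial.lifts_and_natDegree_eq_and_monic
    ((Polynomial.mem_lifts _).2 (hs f)) hf
  obtain ⟨G, rfl⟩ := hs g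
  obtain ⟨q₁, rfl⟩ := hs p₁
  obtain ⟨q₂, rfl⟩ := hs p₂
  have hε : derivative F * q₁ + F * q₂ - G ^ n ∈ I.map (Polynomial.C : A →+* A[X]) := by
    rw [← Ideal.mk_ker (I := I), ← Polynomial.ker_mapRingHom, RingHom.mem_ker]
    simp only [coe_mapRingHom, Polynomial.map_sub, Polynomial.map_add, Polynomial.map_mul,
      Polynomial.map_pow, ← Polynomial.derivative_map]
    rw [e, sub_self]
  have hsq : (derivative F * q₁ + F * q₂ - G ^ n) * (derivative F * q₁ + F * q₂ - G ^ n) = 0 := by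
    have h := Ideal.mul_mem_mul hε hε
    rwa [← Ideal.map_mul, ← pow_two, hI, Ideal.map_bot, Ideal.mem_bot] at h
  exact ⟨⟨F, hF, G, q₁ * (2 * G ^ n - (derivative F * q₁ + F * q₂)),
    q₂ * (2 * G ^ n - (derivative F * q₁ + F * q₂)), 2 * n, by linear_combination -hsq⟩, rfl⟩

/-- A standard etale algebra over `A ⧸ I` is a retract of the reduction of an etale
`A`-algebra. -/
theorem exists_retract {A : Type u} [CommRing A] (I : Ideal A) (hI : I ^ 2 = ⊥) (C : Type u)
    [CommRing C] [Algebra (A ⧸ I) C] [Algebra.IsStandardEtale (A ⧸ I) C] :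
    ∃ (B : Type u) (_ : CommRing B) (_ : Algebra A B) (_ : Algebra.Etale A B)
      (φ : C →ₐ[A ⧸ I] (A ⧸ I) ⊗[A] B) (ψ : (A ⧸ I) ⊗[A] B →ₐ[A ⧸ I] C),
      ψ.comp φ = AlgHom.id (A ⧸ I) C := by
  obtain ⟨Q⟩ :=
    Algebra.IsStandardEtale.nonempty_standardEtalePresentation (R := A ⧸ I) (S := C)
  obtain ⟨P', hP'⟩ := exists_pair I hI Q.P
  letI : Algebra A C := Algebra.compHom C (Ideal.Quotient.mk I)
  have : IsScalarTower A (A ⧸ I) C := IsScalarTower.of_algebraMap_eq fun _ => rfl
  let x' : (A ⧸ I) ⊗[A] P'.Ring := Algebra.TensorProduct.includeRight P'.X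
  have hx' : Q.P.HasMap x' := by
    have h : P'.HasMap x' := P'.hasMap_X.map _
    rw [← hP']
    exact h.map_algebraMap
  have hQ : P'.HasMap Q.x := by
    have h := Q.hasMap
    rw [← hP'] at h
    simpa [StandardEtalePair.HasMap, Polynomial.aeval_map_algebraMap,
      ← Ideal.Quotient.algebraMap_eq] using h
  let φ : C →ₐ[A ⧸ I] (A ⧸ I) ⊗[A] P'.Ring :=
    (Q.P.lift x' hx').comp Q.equivRing.toAlgHom
  let ψ : (A ⧸ I) ⊗[A] P'.Ring →ₐ[A ⧸ I] C :=
    Algebra.TensorProduct.lift (Algebra.ofId (A ⧸ I) C) (P'.lift Q.x hQ) fun _ _ => Commute.all _ _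
  refine ⟨P'.Ring, inferInstance, inferInstance, inferInstance, φ, ψ, Q.hom_ext ?_⟩
  simp [φ, ψ, x']

/-- An etale neighbourhood over a square-zero closed subscheme of an affine scheme is, near a given
point, a retract of the restriction of an etale neighbourhood of the affine scheme. -/
theorem exists_etale_lift_retract {A : Type u} [CommRing A] (I : Ideal A) (hI : I ^ 2 = ⊥)
    {W : Scheme.{u}} (π : W ⟶ Spec (CommRingCat.of (A ⧸ I))) [Etale π] (w : W) :
    ∃ (B : CommRingCat.{u}) (e : Spec B ⟶ Spec (CommRingCat.of A)) (_ : Etale e)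
      (m : pullback (Spec.map (CommRingCat.ofHom (Ideal.Quotient.mk I))) e ⟶ W)
      (O : Scheme.{u}) (ι : O ⟶ W) (_ : IsOpenImmersion ι)
      (σ : O ⟶ pullback (Spec.map (CommRingCat.ofHom (Ideal.Quotient.mk I))) e),
      m ≫ π = pullback.fst _ _ ∧ σ ≫ m = ι ∧ w ∈ Set.range ι := by
  obtain ⟨_, ⟨U, hU, rfl⟩, hwU, -⟩ :=
    W.isBasis_affineOpens.exists_subset_of_mem_open (Set.mem_univ w) isOpen_univ
  replace hU : IsAffineOpen U := hU
  obtain ⟨q, hq⟩ : w ∈ Set.range hU.fromSpec := hU.range_fromSpec.symm ▸ hwU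
  have := hU.isOpenImmersion_fromSpec
  obtain ⟨γ, hγ⟩ := Spec.map_surjective (hU.fromSpec ≫ π)
  let : Algebra (A ⧸ I) Γ(W, U) := γ.hom.toAlgebra
  have hγe : Etale (Spec.map γ) := by rw [hγ]; infer_instance
  have : Algebra.Etale (A ⧸ I) Γ(W, U) := (HasRingHomProperty.Spec_iff (P := @Etale)).1 hγe
  have : q.asIdeal.IsPrime := q.2
  obtain ⟨f, hfq, hstd⟩ :=
    Algebra.IsEtaleAt.exists_isStandardEtale (R := A ⧸ I) q.asIdeal
  obtain ⟨B, _, _, _, φ, ψ, hψφ⟩ := exists_retract I hI (Localization.Away f)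
  have hoi : IsOpenImmersion
      (Spec.map (CommRingCat.ofHom (algebraMap Γ(W, U) (Localization.Away f)))) :=
    .of_isLocalization f
  refine ⟨CommRingCat.of B, Spec.map (CommRingCat.ofHom (algebraMap A B)), ?_,
    (pullbackSpecIso A (A ⧸ I) B).hom ≫ Spec.map (CommRingCat.ofHom φ.toRingHom) ≫
      Spec.map (CommRingCat.ofHom (algebraMap Γ(W, U) (Localization.Away f))) ≫ hU.fromSpec,
    Spec (CommRingCat.of (Localization.Away f)),
    Spec.map (CommRingCat.ofHom (algebraMap Γ(W, U) (Localization.Away f))) ≫ hU.fromSpec,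
    inferInstance,
    Spec.map (CommRingCat.ofHom ψ.toRingHom) ≫ (pullbackSpecIso A (A ⧸ I) B).inv,
    ?_, ?_, ?_⟩
  · exact (HasRingHomProperty.Spec_iff (P := @Etale)).2 (RingHom.etale_algebraMap.2 inferInstance)
  · rw [Category.assoc, Category.assoc, Category.assoc, ← hγ, ← Spec.map_comp, ← Spec.map_comp,
      ← Iso.eq_inv_comp, pullbackSpecIso_inv_fst']
    congr 1
    ext a
    exact φ.commutes a
  · rw [Category.assoc, Iso.inv_hom_id_assoc, ← Spec.map_comp_assoc, ← CommRingCat.ofHom_comp,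
      show ψ.toRingHom.comp φ.toRingHom = RingHom.id _ from congrArg AlgHom.toRingHom hψφ,
      CommRingCat.ofHom_id, Spec.map_id, Category.id_comp]
  · obtain ⟨c, hc⟩ : q ∈ Set.range (PrimeSpectrum.comap
        (algebraMap Γ(W, U) (Localization.Away f))) :=
      (PrimeSpectrum.localization_away_comap_range (Localization.Away f) f).symm ▸ hfq
    refine ⟨c, ?_⟩
    rw [← hq, ← hc]
    rfl

/-- An etale neighbourhood over a square-zero closed subscheme of an affine scheme is dominated by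
the restriction of an etale neighbourhood of the affine scheme. -/
theorem exists_etale_lift {A : Type u} [CommRing A] (I : Ideal A) (hI : I ^ 2 = ⊥)
    {W : Scheme.{u}} (π : W ⟶ Spec (CommRingCat.of (A ⧸ I))) [Etale π] (w : W) :
    ∃ (B : CommRingCat.{u}) (e : Spec B ⟶ Spec (CommRingCat.of A)) (_ : Etale e)
      (m : pullback (Spec.map (CommRingCat.ofHom (Ideal.Quotient.mk I))) e ⟶ W),
      m ≫ π = pullback.fst _ _ ∧ w ∈ Set.range m := by
  obtain ⟨B, e, he, m, O, ι, _, σ, hm, hσ, x, hx⟩ := exists_etale_lift_retract I hI π w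
  refine ⟨B, e, he, m, hm, σ x, ?_⟩
  rw [← Scheme.Hom.comp_apply, hσ, hx]

end Groth.Agent.Lib.AlgSpFormal.EtaleLift
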