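import Groth.Agent.Lib.AlgSpFormal.Lift
import Groth.Agent.Lib.AlgSpFormal.EtaleLift
import Mathlib.RingTheory.Spectrum.Prime.RingHom

/-!
# Descent of formal etaleness along surjective etale maps
-/

universe u

open CategoryTheory CategoryTheory.Limits AlgebraicGeometry Opposite AlgSp

namespace Groth.Agent.Lib.AlgSpFormal.Descend

variable {S : Scheme.{u}} {F G H : Sp S} {a : F ⟶ G} {b : G ⟶ H}

/-- Composition with formally smooth morphisms. -/
theorem formallySmooth_comp (ha : IsFormallySmoothMor a) (hb : IsFormallySmoothMor b) :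
    IsFormallySmoothMor (a ≫ b) := by
  intro sq
  obtain ⟨l, hl₁, hl₂⟩ :=
    hb ⟨sq.A, sq.I, sq.sq_zero, sq.str, sq.top ≫ a, sq.bot, (Category.assoc _ _ _).trans sq.comm⟩
  obtain ⟨m, hm₁, hm₂⟩ :=
    ha ⟨sq.A, sq.I, sq.sq_zero, sq.str, sq.top, l, hl₁.symm⟩
  exact ⟨m, hm₁, by rw [← Category.assoc, hm₂, hl₂]⟩

/-- Composition with formally unramified morphisms. -/
theorem formallyUnramified_comp (ha : IsFormallyUnramifiedMor a) (hb : IsFormallyUnramifiedMor b) :
    IsFormallyUnramifiedMor (a ≫ b) := by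
  intro sq l l' h₁ h₂ h₁' h₂'
  have e : l ≫ a = l' ≫ a :=
    hb ⟨sq.A, sq.I, sq.sq_zero, sq.str, sq.top ≫ a, sq.bot, (Category.assoc _ _ _).trans sq.comm⟩
      (l ≫ a) (l' ≫ a) (by rw [reassoc_of% h₁]) ((Category.assoc l a b).trans h₂)
      (by rw [reassoc_of% h₁']) ((Category.assoc l' a b).trans h₂')
  exact ha ⟨sq.A, sq.I, sq.sq_zero, sq.str, sq.top, l ≫ a, by rw [reassoc_of% h₁]⟩
    l l' h₁ rfl h₁' e.symm

/-- Composition with formally etale morphisms. -/
theorem formallyEtale_comp (ha : IsFormallyEtaleMor a) (hb : IsFormallyEtaleMor b) :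
    IsFormallyEtaleMor (a ≫ b) := fun sq =>
  existsUnique_of_exists_of_unique
    (formallySmooth_comp (Yon.formallySmooth_of_formallyEtale ha)
      (Yon.formallySmooth_of_formallyEtale hb) sq)
    fun l l' hl hl' => formallyUnramified_comp (Yon.formallyUnramified_of_formallyEtale ha)
      (Yon.formallyUnramified_of_formallyEtale hb) sq l l' hl.1 hl.2 hl'.1 hl'.2

/-- Formal unramifiedness descends along surjective etale maps. -/
theorem formallyUnramified_desc (ha : RepWith @Etale a) (ha' : RepWith @Surjective a)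
    (h : IsFormallyUnramifiedMor (a ≫ b)) : IsFormallyUnramifiedMor b := by
  intro sq l l' h₁ h₂ h₁' h₂'
  have hjT := Yon.isFOThickMor_j sq
  have : Etale (ha.1.snd l).left := ha.2 l _ _ (ha.1.isPullback l)
  have : Surjective (ha.1.snd l).left := ha'.2 l _ _ (ha.1.isPullback l)
  let W := ha.1.pullback l
  have hO : ∀ x : ↥W.left, ∃ O : W.left.Opens, IsAffineOpen O ∧ x ∈ O := fun x => by
    obtain ⟨_, ⟨O, hO, rfl⟩, hx, -⟩ :=
      W.left.isBasis_affineOpens.exists_subset_of_mem_open (Set.mem_univ x) isOpen_univ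
    exact ⟨O, hO, hx⟩
  choose O hO hmem using hO
  let Z : ↥W.left → Over S := fun x => Over.mk ((O x).ι ≫ W.hom)
  let r : ∀ x, Z x ⟶ W := fun x => Over.homMk (O x).ι rfl
  let g : ∀ x, Z x ⟶ sq.ptT' := fun x => r x ≫ ha.1.snd l
  have hg : ∀ x, Etale (g x).left := fun x =>
    inferInstanceAs (Etale ((O x).ι ≫ (ha.1.snd l).left))
  refine AlgSpace.hom_ext_of_family Z g (AlgSpace.ofArrows_mem_J Z g
    (fun x => have := hg x; inferInstance) (fun x => have := hg x; inferInstance)
    fun t => ?_) fun x => ?_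
  · obtain ⟨w, hw⟩ := (ha.1.snd l).left.surjective t
    exact ⟨w, ⟨w, hmem w⟩, hw⟩
  let c : (yon S).obj (Z x) ⟶ (yon S).obj sq.ptT' := (yon S).map (g x)
  have : IsAffine (Z x).left := hO x
  obtain ⟨h₀, hI⟩ := Lift.affine_chart_data hjT c (hO x) (AlgSpace.repWith_etale_yon_map (hg x))
  have hc : (yon S).map (hjT.1.1.snd c) ≫ c ≫ l = (yon S).map (hjT.1.1.snd c) ≫ c ≫ l' := by
    simp only [← reassoc_of% hjT.1.1.w c, h₁, h₁']
  let m : (yon S).obj (Z x) ⟶ F := (yon S).map (r x) ≫ ha.1.fst l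
  have hm : m ≫ a = c ≫ l := by
    simp only [m, c, g, Functor.map_comp, Category.assoc, ha.1.w]
  obtain ⟨m', ⟨hm₁, hm₂⟩, -⟩ := Yon.lift_existsUnique_of_affine
    (Yon.isFormallyEtaleMor_of_etale ha) (hjT.1.1.snd c) hI
    ((yon S).map (hjT.1.1.snd c) ≫ m) (c ≫ l') (by rw [Category.assoc, hm, hc])
  have e : m = m' := Yon.lift_unique_of_affine h (hjT.1.1.snd c) hI m m' hm₁.symm
    (by rw [← Category.assoc, ← Category.assoc, hm, hm₂, Category.assoc, Category.assoc, h₂, h₂'])
  exact hm.symm.trans ((congrArg (· ≫ a) e).trans hm₂)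

/-- A closed immersion defined by a square-zero ideal is surjective. -/
theorem surjective_specMap_mk {A : Type u} [CommRing A] (I : Ideal A) (hI : I ^ 2 = ⊥) :
    Function.Surjective (Spec.map (CommRingCat.ofHom (Ideal.Quotient.mk I))) := by
  intro p
  have : p ∈ Set.range (PrimeSpectrum.comap (Ideal.Quotient.mk I)) := by
    rw [range_comap_of_surjective _ _ Ideal.Quotient.mk_surjective, Ideal.mk_ker]
    change (I : Set A) ⊆ p.asIdeal
    intro x hx
    have h2 : x ^ 2 ∈ I ^ 2 := Ideal.pow_mem_pow hx 2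
    rw [hI, Ideal.mem_bot] at h2
    exact Ideal.IsPrime.mem_of_pow_mem p.2 2 (h2 ▸ p.asIdeal.zero_mem)
  exact this

/-- Formal etaleness descends along surjective etale maps. -/
theorem formallyEtale_desc (ha : RepWith @Etale a) (ha' : RepWith @Surjective a)
    (h : IsFormallyEtaleMor (a ≫ b)) : IsFormallyEtaleMor b := by
  have hu : IsFormallyUnramifiedMor b :=
    formallyUnramified_desc ha ha' (Yon.formallyUnramified_of_formallyEtale h)
  intro sq
  refine existsUnique_of_exists_of_unique ?_ fun l l' hl hl' => hu sq l l' hl.1 hl.2 hl'.1 hl'.2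
  have hjT := Yon.isFOThickMor_j sq
  let W := ha.1.pullback sq.top
  have : Etale (ha.1.snd sq.top).left := ha.2 _ _ _ (ha.1.isPullback _)
  have : Surjective (ha.1.snd sq.top).left := ha'.2 _ _ _ (ha.1.isPullback _)
  choose B e he m hm hwm using fun w : ↥W.left =>
    EtaleLift.exists_etale_lift sq.I sq.sq_zero (ha.1.snd sq.top).left w
  let Z : ↥W.left → Over S := fun w => Over.mk (e w ≫ sq.str)
  let g : ∀ w, Z w ⟶ sq.ptT' := fun w => Over.homMk (e w) rfl
  let π : AlgSpace.sigmaOver Z ⟶ sq.ptT' := Over.homMk (Sigma.desc fun w => e w)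
    (Sigma.hom_ext _ _ fun w => by simp [Z])
  have hπ : ∀ w, AlgSpace.sigmaOverι Z w ≫ π = g w := fun w => by
    ext : 1
    exact Sigma.ι_desc (fun w => e w) w
  have hr : HasRingHomProperty (@Etale : MorphismProperty Scheme.{u}) RingHom.Etale :=
    inferInstance
  have : IsZariskiLocalAtSource (@Etale : MorphismProperty Scheme.{u}) :=
    @HasRingHomProperty.instIsZariskiLocalAtSource _ _ hr
  have hπe : Etale π.left := IsZariskiLocalAtSource.sigmaDesc (P := @Etale) he
  have hπs : Surjective π.left := ⟨fun t => by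
    obtain ⟨t₀, rfl⟩ := surjective_specMap_mk sq.I sq.sq_zero t
    obtain ⟨w, rfl⟩ := (ha.1.snd sq.top).left.surjective t₀
    obtain ⟨z, hz⟩ := hwm w
    refine ⟨Sigma.ι (fun w => (Z w).left) w (pullback.snd (Spec.map (CommRingCat.ofHom (Ideal.Quotient.mk sq.I))) (e w) z), ?_⟩
    change (AlgSpace.sigmaOverι Z w ≫ π).left
      (pullback.snd (Spec.map (CommRingCat.ofHom (Ideal.Quotient.mk sq.I))) (e w) z) = _
    rw [hπ w]
    refine Eq.trans ?_ (congrArg (fun x => Spec.map (CommRingCat.ofHom (Ideal.Quotient.mk sq.I))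
      ((ha.1.snd sq.top).left x)) hz)
    change (pullback.snd (Spec.map (CommRingCat.ofHom (Ideal.Quotient.mk sq.I))) (e w) ≫ e w) z =
      Spec.map (CommRingCat.ofHom (Ideal.Quotient.mk sq.I))
        ((m w ≫ (ha.1.snd sq.top).left) z)
    rw [hm w, ← pullback.condition]
    rfl⟩
  let c : ∀ w, (yon S).obj (Z w) ⟶ (yon S).obj sq.ptT' := fun w =>
    (yon S).map (AlgSpace.sigmaOverι Z w) ≫ (yon S).map π
  have hc : ∀ w, c w = (yon S).map (g w) := fun w => by rw [← hπ w, Functor.map_comp]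
  have key : ∀ w, ∃ lw : (yon S).obj (Z w) ⟶ G,
      (yon S).map (hjT.1.1.snd (c w)) ≫ lw = hjT.1.1.fst (c w) ≫ sq.top ∧ lw ≫ b = c w ≫ sq.bot := by
    intro w
    obtain ⟨h₀, hI⟩ := Lift.affine_chart_data hjT (c w) (inferInstanceAs (IsAffine (Spec (B w))))
      (by rw [hc w]; exact AlgSpace.repWith_etale_yon_map (he w))
    obtain ⟨p, hp⟩ := (yon S).map_surjective (hjT.1.1.fst (c w))
    have hpq : p ≫ sq.j = hjT.1.1.snd (c w) ≫ g w := (yon S).map_injective (by
      rw [Functor.map_comp, Functor.map_comp, hp, hjT.1.1.w, hc w])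
    let n₀ : (hjT.1.1.pullback (c w)).left ⟶ W.left :=
      pullback.lift p.left (hjT.1.1.snd (c w)).left
        (congrArg (fun φ : hjT.1.1.pullback (c w) ⟶ sq.ptT' => φ.left) hpq) ≫ m w
    have hn₀ : n₀ ≫ (ha.1.snd sq.top).left = p.left :=
      (Category.assoc _ _ _).trans ((congrArg _ (hm w)).trans (pullback.lift_fst _ _ _))
    let n : hjT.1.1.pullback (c w) ⟶ W := Over.homMk n₀
      ((congrArg (n₀ ≫ ·) (Over.w (ha.1.snd sq.top)).symm).trans
        ((Category.assoc _ _ _).symm.trans ((congrArg (· ≫ sq.ptT.hom) hn₀).trans (Over.w p))))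
    have hn : n ≫ ha.1.snd sq.top = p := by
      ext : 1
      exact hn₀
    have e₁ : ((yon S).map n ≫ ha.1.fst sq.top) ≫ a = (yon S).map p ≫ sq.top := by
      rw [Category.assoc, ha.1.w, ← Functor.map_comp_assoc, hn]
    have w₀ : (yon S).map (hjT.1.1.snd (c w)) ≫ c w ≫ sq.bot =
        ((yon S).map n ≫ ha.1.fst sq.top) ≫ a ≫ b := by
      refine Eq.trans ?_ ((congrArg (· ≫ b) e₁).symm.trans (Category.assoc _ a b))
      refine ((Category.assoc _ _ _).symm.trans (congrArg (· ≫ sq.bot) (hjT.1.1.w (c w)).symm)).trans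
        ((Category.assoc _ _ _).trans ((congrArg (_ ≫ ·) sq.comm.symm).trans ?_))
      rw [hp, Category.assoc]
    have : IsAffine (Z w).left := inferInstanceAs (IsAffine (Spec (B w)))
    obtain ⟨l, ⟨hl₁, hl₂⟩, -⟩ := Yon.lift_existsUnique_of_affine h (hjT.1.1.snd (c w)) hI _ _ w₀
    refine ⟨l ≫ a, ?_, (Category.assoc _ _ _).trans hl₂⟩
    rw [← Category.assoc, hl₁, e₁, hp]
  choose lw hlw hlw' using key
  exact Lift.glue_exists_of_family hjT.1.1 b (a := sq.top)
    (fun V c hV hc l l' e₁ e₁' e₂ =>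
      have := (Lift.affine_chart_data hjT c hV hc).1
      Yon.lift_unique_of_affine hu _ (Lift.affine_chart_data hjT c hV hc).2 l l'
        (e₁.trans e₁'.symm) e₂)
    Z ((yon S).map π) (AlgSpace.repWith_etale_yon_map hπe)
    (AlgSpace.repWith_surjective_yon_map hπs) sq.bot lw hlw hlw'

end Groth.Agent.Lib.AlgSpFormal.Descend
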