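import Groth.Prelude.Def_AlgSp3
import Groth.Agent.S10618
import Groth.Agent.Lib.AlgSpFormal.Descend
import Groth.Agent.Lib.AlgSpMor.LocP
import Groth.Agent.H54.FlatUnramified

/-!
# Formal unramifiedness and etaleness on charts
-/

universe u

open CategoryTheory CategoryTheory.Limits AlgebraicGeometry Opposite AlgSp

namespace Groth.Agent.Lib.AlgSpFormal.Charts

variable {S : Scheme.{u}}

section

variable {X Y : Sp S} {f : X ⟶ Y} {U V : Over S} {a : (yon S).obj U ⟶ X} {b : (yon S).obj V ⟶ Y}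
  {h : U ⟶ V}

theorem formallyUnramified_chart (ha : RepWith @Etale a) (hb : RepWith @Etale b)
    (w : a ≫ f = (yon S).map h ≫ b) (hf : IsFormallyUnramifiedMor f) :
    FormallyUnramified h.left := by
  have h' := Descend.formallyUnramified_comp
    (Yon.formallyUnramified_of_formallyEtale (Yon.isFormallyEtaleMor_of_etale ha)) hf
  rw [w] at h'
  exact (Yon.isFormallyUnramifiedMor_yon_map_iff h).1 ((Groth.Agent.S10618.result _ b
    (Yon.formallyUnramified_of_formallyEtale (Yon.isFormallyEtaleMor_of_etale hb))).1 h')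

theorem formallyEtale_chart (ha : RepWith @Etale a) (hb : RepWith @Etale b)
    (w : a ≫ f = (yon S).map h ≫ b) (hf : IsFormallyEtaleMor f) :
    MoreMor.IsFormallyEtaleHom h.left := by
  have h' := Descend.formallyEtale_comp (Yon.isFormallyEtaleMor_of_etale ha) hf
  rw [w] at h'
  exact (Yon.isFormallyEtaleMor_yon_map_iff h).1 ((Groth.Agent.S10618.result _ b
    (Yon.formallyUnramified_of_formallyEtale (Yon.isFormallyEtaleMor_of_etale hb))).2.1 h')

theorem formallyUnramified_of_chart (ha : RepWith @Etale a) (has : RepWith @Surjective a)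
    (hb : RepWith @Etale b) (w : a ≫ f = (yon S).map h ≫ b) (hh : FormallyUnramified h.left) :
    IsFormallyUnramifiedMor f := by
  have h' := Descend.formallyUnramified_comp ((Yon.isFormallyUnramifiedMor_yon_map_iff h).2 hh)
    (Yon.formallyUnramified_of_formallyEtale (Yon.isFormallyEtaleMor_of_etale hb))
  rw [← w] at h'
  exact Descend.formallyUnramified_desc ha has h'

theorem formallyEtale_of_chart (ha : RepWith @Etale a) (has : RepWith @Surjective a)
    (hb : RepWith @Etale b) (w : a ≫ f = (yon S).map h ≫ b)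
    (hh : MoreMor.IsFormallyEtaleHom h.left) : IsFormallyEtaleMor f := by
  have h' := Descend.formallyEtale_comp ((Yon.isFormallyEtaleMor_yon_map_iff h).2 hh)
    (Yon.isFormallyEtaleMor_of_etale hb)
  rw [← w] at h'
  exact Descend.formallyEtale_desc ha has h'

end

theorem formallyUnramified_iff {X Y : Sp S} (hX : IsAlgSpace X) (hY : IsAlgSpace Y) (f : X ⟶ Y) :
    IsFormallyUnramifiedMor f ↔ LocP @FormallyUnramified f := by
  refine ⟨fun hf U V a b h ha hb w => formallyUnramified_chart ha hb w hf, fun hl => ?_⟩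
  obtain ⟨U, V, a, b, h, ha, has, hb, -, w⟩ := AlgSpMor.LocP.exists_chart hX hY f
  exact formallyUnramified_of_chart ha has hb w (hl a b h ha hb w)

theorem formallyEtale_iff {X Y : Sp S} (hX : IsAlgSpace X) (hY : IsAlgSpace Y) (f : X ⟶ Y) :
    IsFormallyEtaleMor f ↔ LocP @MoreMor.IsFormallyEtaleHom f := by
  refine ⟨fun hf U V a b h ha hb w => formallyEtale_chart ha hb w hf, fun hl => ?_⟩
  obtain ⟨U, V, a, b, h, ha, has, hb, -, w⟩ := AlgSpMor.LocP.exists_chart hX hY f
  exact formallyEtale_of_chart ha has hb w (hl a b h ha hb w)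

/-- Flat unramified morphisms of schemes are formally etale. -/
theorem isFormallyEtaleHom_of_flat {X Y : Scheme.{u}} (f : X ⟶ Y) [LocallyOfFiniteType f]
    [Flat f] [FormallyUnramified f] : MoreMor.IsFormallyEtaleHom f := by
  rw [Groth.Agent.H54.FormalEtaleLocal.iff_affineLocally]
  intro U V hU hV hUV
  have h₁ := HasRingHomProperty.appLE @Flat f ‹_› ⟨V, hV⟩ ⟨U, hU⟩ hUV
  have h₂ := HasRingHomProperty.appLE @FormallyUnramified f ‹_› ⟨V, hV⟩ ⟨U, hU⟩ hUV
  have h₃ := HasRingHomProperty.appLE @LocallyOfFiniteType f ‹_› ⟨V, hV⟩ ⟨U, hU⟩ hUV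
  algebraize [(f.appLE V U hUV).hom]
  exact Groth.Agent.H54.FlatUnramified.formallyEtale_of_flat _ _

/-- For schemes, etale means formally etale and locally of finite presentation. -/
theorem etale_iff_lfp_formallyEtale {X Y : Scheme.{u}} (f : X ⟶ Y) :
    Etale f ↔ LocallyOfFinitePresentation f ∧ MoreMor.IsFormallyEtaleHom f := by
  refine ⟨fun h => ⟨inferInstance, Yon.isFormallyEtaleHom_of_etale f⟩, fun ⟨h₁, h₂⟩ => ?_⟩
  rw [HasRingHomProperty.iff_appLE (P := @Etale)]
  intro V U hUV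
  have h₃ := HasRingHomProperty.appLE @LocallyOfFinitePresentation f h₁ V U hUV
  rw [Groth.Agent.H54.FormalEtaleLocal.iff_affineLocally] at h₂
  have h₄ := h₂ U.1 V.1 U.2 V.2 hUV
  algebraize [(f.appLE V.1 U.1 hUV).hom]
  exact ⟨inferInstance, inferInstance⟩

/-- The two notions of etale morphism of algebraic spaces agree. -/
theorem isEtaleMor_iff_locP {X Y : Sp S} (hX : IsAlgSpace X) (hY : IsAlgSpace Y) (f : X ⟶ Y) :
    IsEtaleMor f ↔ LocP @Etale f := by
  have hE := Groth.Agent.Lib.SourceDescent.Scheme.etale.{u}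
  have : MorphismProperty.ContainsIdentities (@Etale : MorphismProperty Scheme.{u}) :=
    ⟨fun X => inferInstanceAs (Etale (𝟙 X))⟩
  refine ⟨fun hf U V a b h ha hb w => ?_, fun hl U φ hφ => ?_⟩
  · exact AlgSpMor.LocP.locP_of_repWith hE (hf a ha) (𝟙 _) b h (repWith_id _ U) hb
      ((Category.id_comp _).trans w)
  · exact AlgSpMor.LocP.repWith_of_locP hE hY (AlgSpace.representable_from_yon hY.diag (φ ≫ f))
      (AlgSpMor.LocP.locP_comp hE (IsAlgSpace.yon_obj U) hX hY
        (AlgSpMor.LocP.locP_of_repWith hE hφ) hl)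

theorem isEtaleMor_iff_lfp_formallyEtale {X Y : Sp S} (hX : IsAlgSpace X) (hY : IsAlgSpace Y)
    (f : X ⟶ Y) :
    IsEtaleMor f ↔ LocP @LocallyOfFinitePresentation f ∧ IsFormallyEtaleMor f := by
  rw [isEtaleMor_iff_locP hX hY, formallyEtale_iff hX hY]
  exact ⟨fun h => ⟨fun U V a b g ha hb w => ((etale_iff_lfp_formallyEtale _).1 (h a b g ha hb w)).1,
      fun U V a b g ha hb w => ((etale_iff_lfp_formallyEtale _).1 (h a b g ha hb w)).2⟩,
    fun h U V a b g ha hb w =>
      (etale_iff_lfp_formallyEtale _).2 ⟨h.1 a b g ha hb w, h.2 a b g ha hb w⟩⟩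

theorem formallyEtale_of_isEtaleMor {X Y : Sp S} (hX : IsAlgSpace X) (hY : IsAlgSpace Y)
    {f : X ⟶ Y} (hf : IsEtaleMor f) : IsFormallyEtaleMor f :=
  ((isEtaleMor_iff_lfp_formallyEtale hX hY f).1 hf).2

end Groth.Agent.Lib.AlgSpFormal.Charts
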