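import Groth.Prelude.Def_AlgSpInf
import Groth.Agent.H54.FormalEtaleLocal
import Groth.Agent.H54.ThickLocal
import Groth.Agent.Lib.AlgSpace.Basic

/-!
# Infinitesimal lifting squares of sheaves versus liftings of schemes
-/

universe u

open CategoryTheory CategoryTheory.Limits AlgebraicGeometry Opposite AlgSp
open Groth.Agent.H54

namespace Groth.Agent.Lib.AlgSpFormal.Yon

/-- Etale morphisms of schemes are formally etale. -/
theorem isFormallyEtaleHom_of_etale {X Y : Scheme.{u}} (f : X ⟶ Y) [hf : Etale f] :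
    MoreMor.IsFormallyEtaleHom f := by
  rw [FormalEtaleLocal.iff_affineLocally]
  intro U V hU hV hUV
  have h := HasRingHomProperty.appLE @Etale f hf ⟨V, hV⟩ ⟨U, hU⟩ hUV
  algebraize [(f.appLE V U hUV).hom]
  infer_instance

/-- The kernel on global functions of a surjection of rings with square-zero kernel. -/
theorem ker_appTop_specMap_sq {R R' : CommRingCat.{u}} (φ : R ⟶ R')
    (hI : RingHom.ker φ.hom ^ 2 = ⊥) : RingHom.ker (Spec.map φ).appTop.hom ^ 2 = ⊥ := by
  have h : (Spec.map φ).appTop =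
      (Scheme.ΓSpecIso R).hom ≫ φ ≫ (Scheme.ΓSpecIso R').inv := by
    rw [← Scheme.ΓSpecIso_naturality_assoc, Iso.hom_inv_id, Category.comp_id]
  have hker : ∀ x ∈ RingHom.ker (Spec.map φ).appTop.hom,
      (Scheme.ΓSpecIso R).hom.hom x ∈ RingHom.ker φ.hom := by
    intro x hx
    rw [RingHom.mem_ker, h] at hx
    rw [RingHom.mem_ker]
    exact (map_eq_zero_iff _ (ConcreteCategory.bijective_of_isIso (Scheme.ΓSpecIso R').inv).1).1 hx
  rw [pow_two, eq_bot_iff, Ideal.mul_le]
  intro x hx y hy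
  have h' := Ideal.mul_mem_mul (hker x hx) (hker y hy)
  rw [← pow_two, hI, Ideal.mem_bot, ← map_mul] at h'
  exact Ideal.mem_bot.2
    ((map_eq_zero_iff _ (ConcreteCategory.bijective_of_isIso (Scheme.ΓSpecIso R).hom).1).1 h')

/-- A closed subscheme of an affine scheme with square-zero ideal of global functions. -/
theorem ker_mul_ker_eq_bot {T T' : Scheme.{u}} (t : T ⟶ T') [IsClosedImmersion t] [IsAffine T']
    (h : RingHom.ker t.appTop.hom ^ 2 = ⊥) : t.ker * t.ker = ⊥ :=
  Scheme.IdealSheafData.ext_of_isAffine (by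
    rw [Scheme.IdealSheafData.ideal_mul, Pi.mul_apply, t.ker_apply]
    refine ((pow_two _).symm.trans h).trans ?_
    simp)

theorem ker_appTop_sq_of_ker_mul_ker {T T' : Scheme.{u}} (t : T ⟶ T') [IsClosedImmersion t]
    [IsAffine T'] (h : t.ker * t.ker = ⊥) : RingHom.ker t.appTop.hom ^ 2 = ⊥ := by
  have h' := congrArg (fun I : T'.IdealSheafData => I.ideal ⟨⊤, isAffineOpen_top T'⟩) h
  rw [Scheme.IdealSheafData.ideal_mul, Pi.mul_apply, t.ker_apply] at h'
  refine (pow_two _).trans (h'.trans ?_)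
  simp

variable {S : Scheme.{u}} {F G : Sp S}

/-- A square-zero closed subscheme of an affine scheme gives a first order thickening. -/
theorem isFOThickMor_yon_map {T T' : Over S} (g : T ⟶ T') [IsClosedImmersion g.left]
    [IsAffine T'.left] (hI : RingHom.ker g.left.appTop.hom ^ 2 = ⊥) :
    IsFOThickMor ((yon S).map g) := by
  have hk := ker_mul_ker_eq_bot g.left hI
  refine ⟨(isThickMor_yon_map_iff g).2 ⟨inferInstance, ?_⟩, ?_⟩
  · have : IsDominant g.left := by
      rw [isDominant_iff, denseRange_iff_closure_range, ← g.left.support_ker,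
        ← g.left.ker.support_pow 2 (by simp), pow_two, hk]
      simp
    infer_instance
  · intro V W b fst snd hV _ sq
    obtain ⟨b, rfl⟩ := (yon S).map_surjective b
    obtain ⟨fst, rfl⟩ := (yon S).map_surjective fst
    have sq' : IsPullback fst.left snd.left g.left b.left :=
      (Groth.Agent.Lib.AlgSpace.isPullback_of_yon_map sq).map (Over.forget S)
    have := hV
    have : IsClosedImmersion snd.left :=
      MorphismProperty.of_isPullback sq' (inferInstanceAs (IsClosedImmersion g.left))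
    refine ker_mul_ker_eq_bot snd.left ?_
    obtain ⟨-, hker⟩ := ThickLocal.ker_app_eq_map sq'.flip (isAffineOpen_top T'.left)
      (isAffineOpen_top V.left) (le_of_eq (Scheme.Hom.preimage_top _).symm)
    change RingHom.ker (snd.left.app ⊤).hom ^ 2 = ⊥
    rw [show RingHom.ker (snd.left.app ⊤).hom = _ from hker, ← Ideal.map_pow]
    exact Ideal.map_eq_bot_iff_le_ker _ |>.2 (le_of_eq_of_le hI bot_le)

theorem isClosedImmersion_j {f : F ⟶ G} (sq : InfSq f) : IsClosedImmersion sq.j.left :=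
  IsClosedImmersion.spec_of_surjective _ Ideal.Quotient.mk_surjective

theorem ker_j_sq {f : F ⟶ G} (sq : InfSq f) : RingHom.ker sq.j.left.appTop.hom ^ 2 = ⊥ :=
  ker_appTop_specMap_sq _ (by simpa using sq.sq_zero)

theorem isAffine_ptT' {f : F ⟶ G} (sq : InfSq f) : IsAffine sq.ptT'.left :=
  inferInstanceAs (IsAffine (Spec _))

/-- The thickening of a lifting square is a first order thickening. -/
theorem isFOThickMor_j {f : F ⟶ G} (sq : InfSq f) : IsFOThickMor ((yon S).map sq.j) :=
  have := isClosedImmersion_j sq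
  have := isAffine_ptT' sq
  isFOThickMor_yon_map sq.j (ker_j_sq sq)

/-- A lifting problem along a square-zero closed subscheme of an affine scheme is an `InfSq`. -/
theorem exists_infSq (f : F ⟶ G) {T T' : Over S} (g : T ⟶ T') [IsClosedImmersion g.left]
    [IsAffine T'.left] (hI : RingHom.ker g.left.appTop.hom ^ 2 = ⊥)
    (a : (yon S).obj T ⟶ F) (b : (yon S).obj T' ⟶ G) (w : (yon S).map g ≫ b = a ≫ f) :
    ∃ (sq : InfSq f) (φ : ((yon S).obj T' ⟶ F) ≃ ((yon S).obj sq.ptT' ⟶ F)), ∀ l,
      ((yon S).map g ≫ l = a ∧ l ≫ f = b) ↔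
        ((yon S).map sq.j ≫ φ l = sq.top ∧ φ l ≫ f = sq.bot) := by
  obtain ⟨I, e, he⟩ := IsClosedImmersion.Spec_iff.mp
    (inferInstance : IsClosedImmersion (g.left ≫ T'.left.isoSpec.hom))
  have he' : g.left = e.hom ≫ Spec.map (CommRingCat.ofHom (Ideal.Quotient.mk I)) ≫
      T'.left.isoSpec.inv := by
    rw [← Category.assoc, ← he, Category.assoc, Iso.hom_inv_id, Category.comp_id]
  have hJ : I ^ 2 = ⊥ := by
    have hk : (Spec.map (CommRingCat.ofHom (Ideal.Quotient.mk I))).ker *
        (Spec.map (CommRingCat.ofHom (Ideal.Quotient.mk I))).ker = ⊥ := by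
      have : IsClosedImmersion (g.left ≫ T'.left.isoSpec.hom) := inferInstance
      rw [← Scheme.Hom.ker_comp_of_isIso e.hom, ← he]
      refine ker_mul_ker_eq_bot _ ?_
      rw [Scheme.Hom.comp_appTop, CommRingCat.hom_comp, ← RingHom.comap_ker, pow_two, eq_bot_iff,
        Ideal.mul_le]
      intro x hx y hy
      have : IsIso T'.left.isoSpec.hom.appTop :=
        inferInstanceAs (IsIso (T'.left.isoSpec.hom.app ⊤))
      have h' := Ideal.mul_mem_mul (Ideal.mem_comap.1 hx) (Ideal.mem_comap.1 hy)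
      rw [← pow_two, hI, Ideal.mem_bot, ← map_mul] at h'
      exact Ideal.mem_bot.2 ((map_eq_zero_iff _
        (ConcreteCategory.bijective_of_isIso T'.left.isoSpec.hom.appTop).1).1 h')
    have : IsClosedImmersion (Spec.map (CommRingCat.ofHom (Ideal.Quotient.mk I))) :=
      IsClosedImmersion.spec_of_surjective _ Ideal.Quotient.mk_surjective
    have h := ker_appTop_sq_of_ker_mul_ker _ hk
    rw [pow_two, eq_bot_iff, Ideal.mul_le] at h ⊢
    intro x hx y hy
    have hz : ∀ z ∈ I, (Scheme.ΓSpecIso _).inv z ∈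
        RingHom.ker (Spec.map (CommRingCat.ofHom (Ideal.Quotient.mk I))).appTop.hom := by
      intro z hz
      rw [RingHom.mem_ker]
      have h4 := congr($(Scheme.ΓSpecIso_inv_naturality
        (CommRingCat.ofHom (Ideal.Quotient.mk I))).hom z)
      simp only [CommRingCat.hom_comp, RingHom.comp_apply, CommRingCat.hom_ofHom,
        Ideal.Quotient.eq_zero_iff_mem.mpr hz, map_zero] at h4
      exact h4.symm
    have h2 := Ideal.mem_bot.1 (h _ (hz x hx) _ (hz y hy))
    rw [← map_mul] at h2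
    exact Ideal.mem_bot.2 ((map_eq_zero_iff _
      (ConcreteCategory.bijective_of_isIso (Scheme.ΓSpecIso _).inv).1).1 h2)
  let str : Spec (.of Γ(T'.left, ⊤)) ⟶ S := T'.left.isoSpec.inv ≫ T'.hom
  let ι : Over.mk str ≅ T' := Over.isoMk T'.left.isoSpec.symm rfl
  let ι₀ : Over.mk (Spec.map (CommRingCat.ofHom (Ideal.Quotient.mk I)) ≫ str) ≅ T :=
    Over.isoMk e.symm (by
      dsimp [str]
      rw [← Over.w g, he']
      simp)
  have hι : ι₀.hom ≫ g = (Over.homMk (Spec.map (CommRingCat.ofHom (Ideal.Quotient.mk I))) rfl :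
      Over.mk (Spec.map (CommRingCat.ofHom (Ideal.Quotient.mk I)) ≫ str) ⟶ Over.mk str) ≫ ι.hom := by
    ext : 1
    simp [ι, ι₀, he']
  let sq : InfSq f :=
    { A := Γ(T'.left, ⊤)
      I := I
      sq_zero := hJ
      str := str
      top := (yon S).map ι₀.hom ≫ a
      bot := (yon S).map ι.hom ≫ b
      comm := by
        rw [Category.assoc, ← w, ← Functor.map_comp_assoc, hι, Functor.map_comp_assoc] }
  refine ⟨sq, Iso.homCongr ((yon S).mapIso ι).symm (Iso.refl F), fun l => ?_⟩
  have hφ : Iso.homCongr ((yon S).mapIso ι).symm (Iso.refl F) l = (yon S).map ι.hom ≫ l := by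
    simp [Iso.homCongr]
  rw [hφ]
  refine and_congr ?_ ?_
  · change _ ↔ (yon S).map sq.j ≫ (yon S).map ι.hom ≫ l = (yon S).map ι₀.hom ≫ a
    rw [← Functor.map_comp_assoc,
      show sq.j ≫ ι.hom = ι₀.hom ≫ g from hι.symm, Functor.map_comp_assoc, cancel_epi]
  · change _ ↔ ((yon S).map ι.hom ≫ l) ≫ f = (yon S).map ι.hom ≫ b
    rw [Category.assoc, cancel_epi]

/-- Formally unramified morphisms have at most one lift along affine square-zero thickenings. -/
theorem lift_unique_of_affine {f : F ⟶ G} (hf : IsFormallyUnramifiedMor f) {T T' : Over S}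
    (g : T ⟶ T') [IsClosedImmersion g.left] [IsAffine T'.left]
    (hI : RingHom.ker g.left.appTop.hom ^ 2 = ⊥) (l l' : (yon S).obj T' ⟶ F)
    (h₁ : (yon S).map g ≫ l = (yon S).map g ≫ l') (h₂ : l ≫ f = l' ≫ f) : l = l' := by
  obtain ⟨sq, φ, h⟩ := exists_infSq f g hI ((yon S).map g ≫ l) (l ≫ f) (Category.assoc _ _ _).symm
  exact φ.injective (hf sq (φ l) (φ l') ((h l).1 ⟨rfl, rfl⟩).1 ((h l).1 ⟨rfl, rfl⟩).2
    ((h l').1 ⟨h₁.symm, h₂.symm⟩).1 ((h l').1 ⟨h₁.symm, h₂.symm⟩).2)

/-- Formally etale morphisms have exactly one lift along affine square-zero thickenings. -/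
theorem lift_existsUnique_of_affine {f : F ⟶ G} (hf : IsFormallyEtaleMor f) {T T' : Over S}
    (g : T ⟶ T') [IsClosedImmersion g.left] [IsAffine T'.left]
    (hI : RingHom.ker g.left.appTop.hom ^ 2 = ⊥) (a : (yon S).obj T ⟶ F)
    (b : (yon S).obj T' ⟶ G) (w : (yon S).map g ≫ b = a ≫ f) :
    ∃! l, (yon S).map g ≫ l = a ∧ l ≫ f = b := by
  obtain ⟨sq, φ, h⟩ := exists_infSq f g hI a b w
  obtain ⟨l, hl, hlu⟩ := hf sq
  exact ⟨φ.symm l, (h _).2 (by rwa [φ.apply_symm_apply]),
    fun l' hl' => φ.eq_symm_apply.2 (hlu _ ((h l').1 hl'))⟩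

/-- A formally etale morphism is formally unramified. -/
theorem formallyUnramified_of_formallyEtale {f : F ⟶ G} (hf : IsFormallyEtaleMor f) :
    IsFormallyUnramifiedMor f := fun sq _ _ h₁ h₂ h₁' h₂' => (hf sq).unique ⟨h₁, h₂⟩ ⟨h₁', h₂'⟩

theorem formallySmooth_of_formallyEtale {f : F ⟶ G} (hf : IsFormallyEtaleMor f) :
    IsFormallySmoothMor f := fun sq => (hf sq).exists

/-- The point of the pullback of a representable morphism given by the top arrow. -/
theorem exists_topPt {f : F ⟶ G} (hf : Representable f) (sq : InfSq f) :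
    ∃ t : sq.ptT ⟶ hf.pullback sq.bot, t ≫ hf.snd sq.bot = sq.j ∧
      (yon S).map t ≫ hf.fst sq.bot = sq.top :=
  ⟨hf.lift sq.top sq.j sq.comm, hf.lift_snd _ _ _, hf.lift_fst _ _ _⟩

/-- Morphisms representable by formally etale morphisms of schemes are formally etale. -/
theorem isFormallyEtaleMor_of_rep {f : F ⟶ G} (hf : Representable f)
    (h : ∀ ⦃U : Over S⦄ (b : (yon S).obj U ⟶ G), MoreMor.IsFormallyEtaleHom (hf.snd b).left) :
    IsFormallyEtaleMor f := by
  intro sq
  obtain ⟨t, ht₁, ht₂⟩ := exists_topPt hf sq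
  obtain ⟨l₀, ⟨hl₁, hl₂⟩, hlu⟩ := h sq.bot sq.A sq.I sq.sq_zero t.left (𝟙 _)
    ((Category.comp_id _).trans (congrArg (fun x : sq.ptT ⟶ sq.ptT' => x.left) ht₁).symm)
  let l : sq.ptT' ⟶ hf.pullback sq.bot := Over.homMk l₀ (by
    rw [← Over.w (hf.snd sq.bot), ← Category.assoc, hl₂]
    exact Category.id_comp _)
  have hl : l ≫ hf.snd sq.bot = 𝟙 _ := by ext : 1; exact hl₂
  refine ⟨(yon S).map l ≫ hf.fst sq.bot, ⟨?_, ?_⟩, fun l' hl' => ?_⟩
  · have : sq.j ≫ l = t := by ext : 1; exact hl₁
    rw [← Functor.map_comp_assoc, this, ht₂]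
  · rw [Category.assoc, hf.w, ← Functor.map_comp_assoc, hl]
    exact (congrArg (· ≫ sq.bot) ((yon S).map_id _)).trans (Category.id_comp _)
  · let m : sq.ptT' ⟶ hf.pullback sq.bot := hf.lift l' (𝟙 _) (by
      rw [hl'.2]
      exact ((congrArg (· ≫ sq.bot) ((yon S).map_id _)).trans (Category.id_comp _)).symm)
    have hm : sq.j ≫ m = t := hf.hom_ext
      (by rw [Functor.map_comp, Category.assoc, hf.lift_fst, hl'.1, ht₂])
      (by rw [Category.assoc, hf.lift_snd, Category.comp_id, ht₁])
    have : m = l := by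
      ext : 1
      exact hlu m.left ⟨congrArg (fun x : sq.ptT ⟶ hf.pullback sq.bot => x.left) hm,
        congrArg (fun x : sq.ptT' ⟶ sq.ptT' => x.left) (hf.lift_snd _ _ _)⟩
    rw [← this, hf.lift_fst]

/-- Morphisms representable by formally unramified morphisms of schemes are formally unramified. -/
theorem isFormallyUnramifiedMor_of_rep {f : F ⟶ G} (hf : Representable f)
    (h : ∀ ⦃U : Over S⦄ (b : (yon S).obj U ⟶ G), FormallyUnramified (hf.snd b).left) :
    IsFormallyUnramifiedMor f := by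
  intro sq l l' h₁ h₂ h₁' h₂'
  have hid : ∀ x : (yon S).obj sq.ptT' ⟶ F, x ≫ f = sq.bot →
      x ≫ f = (yon S).map (𝟙 sq.ptT') ≫ sq.bot := fun x hx =>
    hx.trans ((congrArg (· ≫ sq.bot) ((yon S).map_id _)).trans (Category.id_comp _)).symm
  have hm : hf.lift l (𝟙 _) (hid l h₂) = hf.lift l' (𝟙 _) (hid l' h₂') := by
    have := h sq.bot
    have := isClosedImmersion_j sq
    have := isAffine_ptT' sq
    have e : sq.j ≫ hf.lift l (𝟙 _) (hid l h₂) = sq.j ≫ hf.lift l' (𝟙 _) (hid l' h₂') := hf.hom_ext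
      (by simp only [Functor.map_comp, Category.assoc, hf.lift_fst, h₁, h₁'])
      (by simp only [Category.assoc, hf.lift_snd])
    ext : 1
    refine FormallyUnramified.hom_ext sq.j.left
      ⟨2, (pow_two _).trans (ker_mul_ker_eq_bot _ (ker_j_sq sq))⟩ (hf.snd sq.bot).left
      (congrArg (fun x : sq.ptT ⟶ hf.pullback sq.bot => x.left) e) ?_
    rw [← Over.comp_left, ← Over.comp_left, hf.lift_snd, hf.lift_snd]
  rw [← hf.lift_fst l (𝟙 _) (hid l h₂), hm, hf.lift_fst]

/-- Representable etale morphisms are formally etale. -/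
theorem isFormallyEtaleMor_of_etale {f : F ⟶ G} (hf : RepWith @Etale f) : IsFormallyEtaleMor f :=
  isFormallyEtaleMor_of_rep hf.1 fun _ b =>
    have : Etale (hf.1.snd b).left := hf.2 b _ _ (hf.1.isPullback b)
    isFormallyEtaleHom_of_etale _

/-- For schemes the two notions of formally etale agree. -/
theorem isFormallyEtaleMor_yon_map_iff {U V : Over S} (g : U ⟶ V) :
    IsFormallyEtaleMor ((yon S).map g) ↔ MoreMor.IsFormallyEtaleHom g.left := by
  constructor
  · intro h A _ I hI a b w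
    let T' : Over S := Over.mk (b ≫ V.hom)
    let T : Over S := Over.mk (Spec.map (CommRingCat.ofHom (Ideal.Quotient.mk I)) ≫ b ≫ V.hom)
    let aT : T ⟶ U := Over.homMk a (by
      change a ≫ U.hom = _ ≫ b ≫ V.hom
      rw [← Over.w g, ← Category.assoc, ← w, Category.assoc])
    let bT : T' ⟶ V := Over.homMk b rfl
    have hw : aT ≫ g =
        (Over.homMk (Spec.map (CommRingCat.ofHom (Ideal.Quotient.mk I))) rfl : T ⟶ T') ≫ bT := by
      ext : 1; exact w.symm
    obtain ⟨l, ⟨hl₁, hl₂⟩, hlu⟩ := h ⟨A, I, hI, b ≫ V.hom, (yon S).map aT, (yon S).map bT,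
      by rw [← Functor.map_comp, ← Functor.map_comp, hw]⟩
    obtain ⟨l, rfl⟩ := (yon S).map_surjective l
    have hl₁' : (Over.homMk (Spec.map (CommRingCat.ofHom (Ideal.Quotient.mk I))) rfl : T ⟶ T') ≫ l
        = aT := (yon S).map_injective (((yon S).map_comp _ _).trans hl₁)
    have hl₂' : l ≫ g = bT := (yon S).map_injective (((yon S).map_comp _ _).trans hl₂)
    refine ⟨l.left, ⟨congrArg (fun x : T ⟶ U => x.left) hl₁',
      congrArg (fun x : T' ⟶ V => x.left) hl₂'⟩, fun l' hl' => ?_⟩
    let m : T' ⟶ U := Over.homMk l' (by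
      change l' ≫ U.hom = b ≫ V.hom
      rw [← Over.w g, ← Category.assoc, hl'.2])
    have hm : (yon S).map m = (yon S).map l := hlu _
      ⟨((yon S).map_comp _ _).symm.trans (congrArg _ (by ext : 1; exact hl'.1)),
        ((yon S).map_comp _ _).symm.trans (congrArg _ (by ext : 1; exact hl'.2))⟩
    exact congrArg (fun x : T' ⟶ U => x.left) ((yon S).map_injective hm)
  · intro h
    have hr := AlgSp.representable_yon_map g
    refine isFormallyEtaleMor_of_rep hr fun W b => ?_
    obtain ⟨b', rfl⟩ := (yon S).map_surjective b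
    have sq := hr.isPullback ((yon S).map b')
    obtain ⟨p, hp⟩ := (yon S).map_surjective (hr.fst ((yon S).map b'))
    rw [← hp] at sq
    exact FormalEtale.baseChange
      ((Groth.Agent.Lib.AlgSpace.isPullback_of_yon_map sq).map (Over.forget S)) h

/-- For schemes the two notions of formally unramified agree. -/
theorem isFormallyUnramifiedMor_yon_map_iff {U V : Over S} (g : U ⟶ V) :
    IsFormallyUnramifiedMor ((yon S).map g) ↔ FormallyUnramified g.left := by
  constructor
  · intro h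
    refine FormallyUnramified.of_hom_ext _ fun R R' φ hφ hI g₁ g₂ e₁ e₂ => ?_
    let T' : Over S := Over.mk (g₁ ≫ U.hom)
    let T : Over S := Over.mk (Spec.map φ ≫ g₁ ≫ U.hom)
    let t : T ⟶ T' := Over.homMk (Spec.map φ) rfl
    let m₁ : T' ⟶ U := Over.homMk g₁ rfl
    let m₂ : T' ⟶ U := Over.homMk g₂ (by
      change g₂ ≫ U.hom = g₁ ≫ U.hom
      rw [← Over.w g, ← Category.assoc, ← e₂, Category.assoc])
    have : IsClosedImmersion t.left := IsClosedImmersion.spec_of_surjective _ hφ
    have : IsAffine T'.left := inferInstanceAs (IsAffine (Spec _))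
    have hk : RingHom.ker t.left.appTop.hom ^ 2 = ⊥ := ker_appTop_specMap_sq φ hI
    have hm : (yon S).map m₁ = (yon S).map m₂ := lift_unique_of_affine h t hk _ _
      (by rw [← Functor.map_comp, ← Functor.map_comp]; congr 1; ext : 1; exact e₁)
      (by rw [← Functor.map_comp, ← Functor.map_comp]; congr 1; ext : 1; exact e₂)
    exact congrArg (fun x : T' ⟶ U => x.left) ((yon S).map_injective hm)
  · intro h
    have hr := AlgSp.repWith_yon_map_iff @FormallyUnramified g |>.2 h
    exact isFormallyUnramifiedMor_of_rep hr.1 fun W b => hr.2 b _ _ (hr.1.isPullback b)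

end Groth.Agent.Lib.AlgSpFormal.Yon
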