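import Groth.Agent.Lib.AlgSpace.OpenSub
import Groth.Agent.Lib.AlgSpace.Local
import Groth.Agent.Lib.AlgSpace.Diag
import Mathlib.CategoryTheory.Sites.Subsheaf
import Mathlib.CategoryTheory.Sites.LocallySurjective

/-!
# The open subspace on an open set of points
-/

universe u

open CategoryTheory CategoryTheory.Limits AlgebraicGeometry Opposite AlgSp

namespace Groth.Agent.Lib.AlgSpFormal.OpenSet

variable {S : Scheme.{u}}

/-- Every open set of points of an algebraic space is the set of points of an open subspace. -/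
theorem exists_openSub {G : Sp S} (hG : IsAlgSpace G) {O : Set (Points G)} (hO : IsOpen O) :
    ∃ (F : Sp S) (j : F ⟶ G), IsAlgSpace F ∧ RepWith @IsOpenImmersion j ∧
      Set.range (Points.map j) = O := by
  obtain ⟨U, p, hp, hps⟩ := hG.atlas
  let W : U.left.Opens := ⟨Points.ofPt p ⁻¹' O, hO.preimage (Points.continuous_ofPt p)⟩
  let WS : Over S := Over.mk (W.ι ≫ U.hom)
  let w : WS ⟶ U := Over.homMk W.ι rfl
  let f : (yon S).obj WS ⟶ G := (yon S).map w ≫ p
  let j := Sheaf.imageι f
  let t := Sheaf.toImage f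
  have hfac : t ≫ j = f := Sheaf.toImage_ι f
  have : Epi t := inferInstance
  have : Sheaf.IsLocallySurjective t := (Sheaf.isLocallySurjective_iff_epi t).2 inferInstance
  have : Mono j := inferInstance
  have key₁ : ∀ {T : Over S} (b : (yon S).obj T ⟶ Sheaf.image f) (x : ↥T.left),
      Points.ofPt (b ≫ j) x ∈ O := by
    intro T b x
    obtain ⟨T', q, a, hq, ha⟩ := AlgSpace.exists_lift_of_isLocallySurjective t b
    obtain ⟨y, rfl⟩ := hq.1.1.surj x
    obtain ⟨a, rfl⟩ := (yon S).map_surjective a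
    rw [← AlgSpace.ofPt_yon_map_comp, ← reassoc_of% ha, hfac]
    simp only [f]
    rw [← Functor.map_comp_assoc, AlgSpace.ofPt_yon_map_comp]
    exact (a.left y).2
  have key₂ : ∀ {T : Over S} (a : (yon S).obj T ⟶ G), (∀ x, Points.ofPt a x ∈ O) →
      ∃ l, l ≫ j = a := by
    intro T a ha
    have hqe : Etale (hp.1.snd a).left := hp.2 a _ _ (hp.1.isPullback a)
    have hqs : Surjective (hp.1.snd a).left := hps.2 a _ _ (hp.1.isPullback a)
    obtain ⟨r, hr⟩ := (yon S).map_surjective (hp.1.fst a)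
    have hw : (yon S).map r ≫ p = (yon S).map (hp.1.snd a) ≫ a := by rw [hr, hp.1.w]
    have hsub : Set.range r.left ⊆ Set.range W.ι := by
      rw [Scheme.Opens.range_ι]
      rintro _ ⟨y, rfl⟩
      change Points.ofPt p (r.left y) ∈ O
      rw [← AlgSpace.ofPt_yon_map_comp, hw, AlgSpace.ofPt_yon_map_comp]
      exact ha _
    let k : hp.1.pullback a ⟶ WS := Over.homMk (IsOpenImmersion.lift W.ι r.left hsub) (by
      change _ ≫ W.ι ≫ U.hom = _
      rw [IsOpenImmersion.lift_fac_assoc, Over.w r])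
    have hk : k ≫ w = r := by
      ext : 1
      exact IsOpenImmersion.lift_fac _ _ _
    have hh : (yon S).map k ≫ f = (yon S).map (hp.1.snd a) ≫ a := by
      rw [← Functor.map_comp_assoc, hk, hw]
    have := AlgSpace.isLocallySurjective_of_etale (AlgSpace.repWith_etale_yon_map hqe)
      (AlgSpace.repWith_surjective_yon_map hqs)
    obtain ⟨l, hl⟩ := AlgSpace.exists_desc ((yon S).map (hp.1.snd a))
      ((IsPullback.of_hasPullback (hp.1.snd a) (hp.1.snd a)).map (yon S)) ((yon S).map k ≫ t)
      ((cancel_mono j).1 (by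
        simp only [Category.assoc, hfac, hh]
        rw [← Functor.map_comp_assoc, ← Functor.map_comp_assoc, pullback.condition]))
    exact ⟨l, (cancel_epi ((yon S).map (hp.1.snd a))).1 (by rw [reassoc_of% hl, hfac, hh])⟩
  have hj : RepWith @IsOpenImmersion j := AlgSpace.repWith_of_exists fun T a => by
    let V : T.left.Opens := ⟨Points.ofPt a ⁻¹' O, hO.preimage (Points.continuous_ofPt a)⟩
    let VS : Over S := Over.mk (V.ι ≫ T.hom)
    let v : VS ⟶ T := Over.homMk V.ι rfl
    obtain ⟨l, hl⟩ := key₂ ((yon S).map v ≫ a) fun x => by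
      rw [AlgSpace.ofPt_yon_map_comp]
      exact x.2
    refine ⟨VS, v, l, AlgSpace.isPullback_of_yon hl (fun T' c c' _ h => ?_) (fun T' b g hbg => ?_),
      inferInstanceAs (IsOpenImmersion V.ι)⟩
    · obtain ⟨c, rfl⟩ := (yon S).map_surjective c
      obtain ⟨c', rfl⟩ := (yon S).map_surjective c'
      rw [← Functor.map_comp, ← Functor.map_comp] at h
      have h' := congrArg (fun φ : T' ⟶ T => φ.left) ((yon S).map_injective h)
      congr 1
      ext : 1
      exact (cancel_mono V.ι).1 h'
    · obtain ⟨g, rfl⟩ := (yon S).map_surjective g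
      have hsub : Set.range g.left ⊆ Set.range V.ι := by
        rw [Scheme.Opens.range_ι]
        rintro _ ⟨y, rfl⟩
        change Points.ofPt a (g.left y) ∈ O
        rw [← AlgSpace.ofPt_yon_map_comp, ← hbg]
        exact key₁ b y
      let c : T' ⟶ VS := Over.homMk (IsOpenImmersion.lift V.ι g.left hsub) (by
        change _ ≫ V.ι ≫ T.hom = _
        rw [IsOpenImmersion.lift_fac_assoc, Over.w g])
      have hc : c ≫ v = g := by
        ext : 1
        exact IsOpenImmersion.lift_fac _ _ _
      refine ⟨(yon S).map c, (cancel_mono j).1 ?_, by rw [← Functor.map_comp, hc]⟩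
      rw [Category.assoc, hl, ← Functor.map_comp_assoc, hc, hbg]
  refine ⟨Sheaf.image f, j, AlgSpace.isAlgSpace_of_representable hj.1 hG, hj, Set.ext fun x => ⟨?_, fun hx => ?_⟩⟩
  · rintro ⟨y, rfl⟩
    obtain ⟨T, b, z, rfl⟩ := AlgSpace.exists_ofPt_eq y
    rw [Points.map_ofPt]
    exact key₁ b z
  · obtain ⟨u, rfl⟩ := AlgSpace.surjective_ofPt hps x
    let z : ↥WS.left := ⟨u, hx⟩
    refine ⟨Points.ofPt t z, ?_⟩
    rw [Points.map_ofPt, hfac]
    exact AlgSpace.ofPt_yon_map_comp _ _ _

end Groth.Agent.Lib.AlgSpFormal.OpenSet
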