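import Groth.Prelude.Def_AlgSpInf
import Groth.Agent.Lib.AlgSpFormal.OpenSet

/-!
# The points of a thickening
-/

universe u

open CategoryTheory CategoryTheory.Limits AlgebraicGeometry Opposite AlgSp

namespace Groth.Agent.Lib.AlgSpFormal.ThickTopo

variable {S : Scheme.{u}} {F G : Sp S} {i : F ⟶ G}

theorem mono_of_thick (hi : IsThickMor i) : Mono i :=
  AlgSpace.mono_of_repWith (fun _ _ g (hg : thick g) => haveI := hg.1
    (inferInstanceAs (Mono g) : MorphismProperty.monomorphisms Scheme.{u} g)) hi

theorem isHomeomorph_of_thick {X Y : Scheme.{u}} {g : X ⟶ Y} (hg : thick g) : IsHomeomorph g :=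
  isHomeomorph_iff_isEmbedding_surjective.2 ⟨hg.1.isClosedEmbedding.isEmbedding, hg.2.surj⟩

/-- A thickening is a homeomorphism on points. -/
theorem isHomeomorph_map (hi : IsThickMor i) : IsHomeomorph (Points.map i) where
  continuous := Points.continuous_map i
  isOpenMap := fun W hW ↦ Points.isOpen_iff.2 fun T g ↦ by
    obtain ⟨V, v, fst, sq, hv⟩ := AlgSpace.repWith_exists hi g
    rw [AlgSpace.preimage_image_map sq]
    exact (isHomeomorph_of_thick hv).isOpenMap _ (Points.isOpen_iff.1 hW V fst)
  bijective :=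
    haveI := mono_of_thick hi
    ⟨AlgSpace.injective_map_of_mono i,
      AlgSpace.surjective_map (AlgSpace.repWith_mono hi fun _ _ _ h => h.2)⟩

theorem mono_of_openImmersion {U : Sp S} {u : U ⟶ G} (hu : RepWith @IsOpenImmersion u) : Mono u :=
  AlgSpace.mono_of_repWith (P := @IsOpenImmersion)
    (fun _ _ g (_ : IsOpenImmersion g) => (inferInstance : Mono g)) hu

/-- An open subspace of the thickened space has the preimage as its base change. -/
theorem isPullback_of_range {U U' : Sp S} {u : U ⟶ F} (hu : RepWith @IsOpenImmersion u)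
    {u' : U' ⟶ G} (hu' : RepWith @IsOpenImmersion u')
    (h : Set.range (Points.map u') = Points.map i '' Set.range (Points.map u))
    (hinj : Function.Injective (Points.map i)) : ∃ k : U ⟶ U', IsPullback u k i u' := by
  have := mono_of_openImmersion hu
  have := mono_of_openImmersion hu'
  obtain ⟨k, hk⟩ := (AlgSpace.exists_lift_iff_range_subset hu' (u ≫ i)).2 (by
    rintro _ ⟨x, rfl⟩
    rw [h, Points.map_comp]
    exact ⟨_, ⟨x, rfl⟩, rfl⟩)
  refine ⟨k, AlgSpace.isPullback_of_yon hk.symm (fun T c c' h₁ _ => (cancel_mono u).1 h₁)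
    fun T a b hab => ?_⟩
  obtain ⟨c, hc⟩ := AlgSpace.exists_lift_yon_of_range_subset hu a (by
    rintro _ ⟨t, rfl⟩
    obtain ⟨y, hy, hy'⟩ : Points.map i (Points.ofPt a t) ∈ Points.map i '' Set.range (Points.map u) := by
      rw [← h, Points.map_ofPt, hab, ← Points.map_ofPt]
      exact ⟨_, rfl⟩
    rw [← hinj hy']
    exact hy)
  exact ⟨c, hc, (cancel_mono u').1 (by rw [Category.assoc, hk, reassoc_of% hc, hab])⟩

/-- The range of an open subspace of the thickened space restricting to a given one. -/
theorem range_of_isPullback {U U' : Sp S} {u : U ⟶ F} {u' : U' ⟶ G} {k : U ⟶ U'}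
    (sq : IsPullback u k i u') (hs : Function.Surjective (Points.map i)) :
    Set.range (Points.map u') = Points.map i '' Set.range (Points.map u) := by
  ext x
  constructor
  · rintro ⟨y, rfl⟩
    obtain ⟨z, hz⟩ := hs (Points.map u' y)
    obtain ⟨w, hw, -⟩ := AlgSpace.exists_of_isPullback sq z y hz
    exact ⟨z, ⟨w, hw⟩, hz⟩
  · rintro ⟨_, ⟨w, rfl⟩, rfl⟩
    exact ⟨Points.map k w, by rw [← Points.map_comp, ← Points.map_comp, sq.w]⟩

end Groth.Agent.Lib.AlgSpFormal.ThickTopo
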