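import Groth.Agent.Lib.AlgSpFormal.ThickSquare
import Groth.Agent.Lib.AlgSpMor.Proper
import Groth.Agent.Lib.AlgSpMor.Sep
import Mathlib.AlgebraicGeometry.ZariskisMainTheorem

/-!
# Separation properties along morphisms of thickenings
-/

universe u

open CategoryTheory CategoryTheory.Limits AlgebraicGeometry Opposite AlgSp

namespace Groth.Agent.Lib.AlgSpFormal.ThickDiag

variable {S : Scheme.{u}} {X X' Y Y' : Sp S} {i : X ⟶ X'} {j : Y ⟶ Y'} {f : X ⟶ Y} {f' : X' ⟶ Y'}

instance thick_comp : MorphismProperty.IsStableUnderComposition thick.{u} :=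
  ⟨fun f g hf hg => ⟨haveI := hf.1; haveI := hg.1; inferInstanceAs (IsClosedImmersion (f ≫ g)),
    haveI := hf.2; haveI := hg.2; inferInstanceAs (Surjective (f ≫ g))⟩⟩

/-- The map induced on self fibre products by a morphism of thickenings is a thickening. -/
theorem exists_thick_fibreSquare (hi : IsThickMor i) (hj : IsThickMor j) (w : i ≫ f' = f ≫ j) :
    ∃ k : pullback f f ⟶ pullback f' f',
      IsThickMor k ∧ i ≫ pullback.diagonal f' = pullback.diagonal f ≫ k := by
  have := ThickTopo.mono_of_thick hj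
  let k : pullback f f ⟶ pullback f' f' :=
    pullback.lift (pullback.fst f f ≫ i) (pullback.snd f f ≫ i)
      (by rw [Category.assoc, Category.assoc, w, pullback.condition_assoc])
  have k₁ : k ≫ pullback.fst f' f' = pullback.fst f f ≫ i := pullback.lift_fst _ _ _
  have k₂ : k ≫ pullback.snd f' f' = pullback.snd f f ≫ i := pullback.lift_snd _ _ _
  refine ⟨k, AlgSpace.repWith_baseChange
    (fst := prod.lift (pullback.fst f f) (pullback.snd f f))
    (g := prod.lift (pullback.fst f' f') (pullback.snd f' f')) ?_ (AlgSpace.repWith_prodMap hi hi),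
    by apply pullback.hom_ext <;> simp [k₁, k₂]⟩
  refine AlgSpace.isPullback_of_yon (prod.hom_ext (by simp [prod.lift_fst, k₁]) (by simp [prod.lift_snd, k₂]))
    (fun T c c' h₁ _ => pullback.hom_ext ?_ ?_) fun T a b hab => ?_
  · simpa [prod.lift_fst] using congrArg (· ≫ prod.fst) h₁
  · simpa [prod.lift_snd] using congrArg (· ≫ prod.snd) h₁
  · have e₁ : (a ≫ prod.fst) ≫ i = b ≫ pullback.fst f' f' := by
      simpa [prod.lift_fst] using congrArg (· ≫ prod.fst) hab
    have e₂ : (a ≫ prod.snd) ≫ i = b ≫ pullback.snd f' f' := by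
      simpa [prod.lift_snd] using congrArg (· ≫ prod.snd) hab
    have e : (a ≫ prod.fst) ≫ f = (a ≫ prod.snd) ≫ f := by
      rw [← cancel_mono j]
      simp only [Category.assoc, ← w]
      simp only [← Category.assoc]
      rw [e₁, e₂, Category.assoc, Category.assoc, pullback.condition]
    refine ⟨pullback.lift (a ≫ prod.fst) (a ≫ prod.snd) e, prod.hom_ext (by simp [prod.lift_fst, pullback.lift_fst]) (by simp [prod.lift_snd, pullback.lift_snd]),
      pullback.hom_ext ?_ ?_⟩
    · simpa [k₁, pullback.lift_fst_assoc] using e₁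
    · simpa [k₂, pullback.lift_snd_assoc] using e₂

theorem univClosed_eq_univSp {F G : Sp S} (g : F ⟶ G) :
    IsUnivClosedMor g ↔ UnivSp (fun _ _ h => IsClosedMap (Points.map h)) g := Iff.rfl

/-- Separatedness is universal closedness of the diagonal. -/
theorem isSeparatedMor_iff {F G : Sp S} (hF : IsAlgSpace F) (g : F ⟶ G) :
    IsSeparatedMor g ↔ IsUnivClosedMor (pullback.diagonal g) := by
  obtain ⟨hr, h₁, h₂, h₃, h₄⟩ := AlgSpMor.Sep.diagonal_props g hF
  refine ⟨fun h => AlgSpMor.Proper.isUnivClosedMor_of_repWith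
    (AlgSpace.repWith_mono h fun _ _ q (_ : IsClosedImmersion q) => inferInstance), fun h => ?_⟩
  have h₅ := AlgSpMor.Proper.repWith_universallyClosed_of hr h
  refine ⟨hr, fun U V a b sq => ?_⟩
  intro p
  have : UniversallyClosed sq.left := h₅.2 a b sq p
  have : LocallyOfFiniteType sq.left := h₁.2 a b sq p
  have : Mono sq.left := h₂.2 a b sq p
  have : LocallyQuasiFinite sq.left := (h₄.2 a b sq p).1
  have : IsSeparated sq.left := h₃.2 a b sq p
  have : IsProper sq.left := {}
  have := IsFinite.of_isProper_of_locallyQuasiFinite sq.left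
  exact (IsClosedImmersion.iff_isFinite_and_mono _).2 ⟨‹_›, ‹_›⟩

/-- Separatedness passes along morphisms of thickenings. -/
theorem isSeparatedMor_thick_iff (hX : IsAlgSpace X) (hX' : IsAlgSpace X') (hY : IsAlgSpace Y)
    (hY' : IsAlgSpace Y') (hi : IsThickMor i) (hj : IsThickMor j) (w : i ≫ f' = f ≫ j) :
    IsSeparatedMor f ↔ IsSeparatedMor f' := by
  obtain ⟨k, hk, wk⟩ := exists_thick_fibreSquare hi hj w
  rw [isSeparatedMor_iff hX, isSeparatedMor_iff hX']
  exact ThickSquare.univSp_iff (fun h => IsClosedMap h) ThickSquare.homeoInvariant_isClosedMap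
    (AlgSpace.isAlgSpace_of_isPullback (IsPullback.of_hasPullback f f) hY.diag hX hX)
    (AlgSpace.isAlgSpace_of_isPullback (IsPullback.of_hasPullback f' f') hY'.diag hX' hX') hi hk wk

/-- Quasi-separatedness passes along morphisms of thickenings. -/
theorem isQuasiSeparatedMor_thick_iff (hX : IsAlgSpace X) (hX' : IsAlgSpace X') (hY : IsAlgSpace Y)
    (hY' : IsAlgSpace Y') (hi : IsThickMor i) (hj : IsThickMor j) (w : i ≫ f' = f ≫ j) :
    IsQuasiSeparatedMor f ↔ IsQuasiSeparatedMor f' := by
  obtain ⟨k, hk, wk⟩ := exists_thick_fibreSquare hi hj w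
  refine (AlgSpMor.QC.repWith_quasiCompact_iff (AlgSpMor.Sep.representable_diagonal f hX.diag)).trans
    (Iff.trans ?_ (AlgSpMor.QC.repWith_quasiCompact_iff
      (AlgSpMor.Sep.representable_diagonal f' hX'.diag)).symm)
  exact ThickSquare.isQuasiCompactMor_iff hX hX'
    (AlgSpace.isAlgSpace_of_isPullback (IsPullback.of_hasPullback f f) hY.diag hX hX)
    (AlgSpace.isAlgSpace_of_isPullback (IsPullback.of_hasPullback f' f') hY'.diag hX' hX') hi hk wk

end Groth.Agent.Lib.AlgSpFormal.ThickDiag
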