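import Groth.Prelude.Def_AlgSp4
import Groth.Agent.Lib.AlgSpFormal.ThickTopo
import Groth.Agent.Lib.AlgSpMor.QC

/-!
# Topological properties along morphisms of thickenings
-/

universe u

open CategoryTheory CategoryTheory.Limits AlgebraicGeometry Opposite AlgSp

namespace Groth.Agent.Lib.AlgSpFormal.ThickSquare

variable {S : Scheme.{u}} {X X' Y Y' : Sp S} {i : X ⟶ X'} {j : Y ⟶ Y'} {f : X ⟶ Y} {f' : X' ⟶ Y'}

/-- Restricting a base change of `f'` along a map to `Y` gives a base change of `f`. -/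
theorem exists_thick_down (hi : IsThickMor i) (hj : IsThickMor j) (w : i ≫ f' = f ≫ j) {Z Q : Sp S}
    (g₀ : Z ⟶ Y) {q₁ : Q ⟶ X} {q₂ : Q ⟶ Z} (sq : IsPullback q₁ q₂ f g₀) :
    ∃ iQ : Q ⟶ pullback f' (g₀ ≫ j), IsThickMor iQ ∧ iQ ≫ pullback.snd _ _ = q₂ := by
  have := ThickTopo.mono_of_thick hj
  let iQ : Q ⟶ pullback f' (g₀ ≫ j) := pullback.lift (q₁ ≫ i) q₂ (by
    rw [Category.assoc, w, reassoc_of% sq.w])
  refine ⟨iQ, AlgSpace.repWith_baseChange (fst := q₁) (g := pullback.fst f' (g₀ ≫ j)) ?_ hi, pullback.lift_snd _ _ _⟩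
  refine (AlgSpace.isPullback_of_yon (fst := q₁) (snd := iQ) (f := i) (g := pullback.fst f' (g₀ ≫ j))
    (pullback.lift_fst _ _ _).symm (fun T c c' h₁ h₂ => sq.hom_ext h₁ ?_) fun T a b hab => ?_)
  · have e : iQ ≫ pullback.snd f' (g₀ ≫ j) = q₂ := pullback.lift_snd _ _ _
    rw [← e, ← Category.assoc, h₂, Category.assoc]
  · have e : a ≫ f = (b ≫ pullback.snd f' (g₀ ≫ j)) ≫ g₀ := by
      rw [← cancel_mono j, Category.assoc, ← w, reassoc_of% hab, pullback.condition]
      simp only [Category.assoc]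
    refine ⟨sq.lift a _ e, sq.lift_fst _ _ _, pullback.hom_ext ?_ ?_⟩
    · rw [Category.assoc, pullback.lift_fst, ← Category.assoc, sq.lift_fst, hab]
    · rw [Category.assoc, pullback.lift_snd, sq.lift_snd]

/-- A base change of `f'` contains a base change of `f` as a thickened subspace. -/
theorem exists_thick_up (hi : IsThickMor i) (w : i ≫ f' = f ≫ j) {Z P : Sp S}
    (g : Z ⟶ Y') {p₁ : P ⟶ X'} {p₂ : P ⟶ Z} (sq : IsPullback p₁ p₂ f' g) :
    ∃ iQ : pullback f (pullback.fst j g) ⟶ P, IsThickMor iQ ∧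
      iQ ≫ p₂ = pullback.snd f (pullback.fst j g) ≫ pullback.snd j g := by
  let iQ : pullback f (pullback.fst j g) ⟶ P := sq.lift (pullback.fst _ _ ≫ i)
    (pullback.snd f (pullback.fst j g) ≫ pullback.snd j g) (by
      rw [Category.assoc, w, Category.assoc, ← pullback.condition, ← reassoc_of% (pullback.condition (f := f) (g := pullback.fst j g))])
  refine ⟨iQ, AlgSpace.repWith_baseChange (fst := pullback.fst f (pullback.fst j g)) (g := p₁) ?_ hi, sq.lift_snd _ _ _⟩
  refine (AlgSpace.isPullback_of_yon (fst := pullback.fst f (pullback.fst j g)) (snd := iQ) (f := i)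
    (g := p₁) (sq.lift_fst _ _ _).symm (fun T c c' h₁ h₂ => pullback.hom_ext h₁
      (pullback.hom_ext ?_ ?_)) fun T a b hab => ?_)
  · rw [Category.assoc, Category.assoc, ← pullback.condition, reassoc_of% h₁]
  · have := congrArg (· ≫ p₂) h₂
    simpa [iQ] using this
  · have e : (a ≫ f) ≫ j = (b ≫ p₂) ≫ g := by
      rw [Category.assoc, ← w, reassoc_of% hab, sq.w, Category.assoc]
    refine ⟨pullback.lift a (pullback.lift (a ≫ f) (b ≫ p₂) e) (pullback.lift_fst _ _ _).symm,
      pullback.lift_fst _ _ _, sq.hom_ext ?_ ?_⟩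
    · rw [Category.assoc, sq.lift_fst, pullback.lift_fst_assoc, hab]
    · rw [Category.assoc, sq.lift_snd, pullback.lift_snd_assoc, pullback.lift_snd]

/-- A property of maps of topological spaces insensitive to homeomorphisms on either side. -/
def HomeoInvariant
    (Φ : ∀ {A B : Type (u + 1)} [TopologicalSpace A] [TopologicalSpace B], (A → B) → Prop) : Prop :=
  ∀ {A A' B B' : Type (u + 1)} [TopologicalSpace A] [TopologicalSpace A'] [TopologicalSpace B]
    [TopologicalSpace B'] (e : A ≃ₜ A') (k : B ≃ₜ B') (h : A → B) (h' : A' → B'),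
    h' ∘ e = k ∘ h → (Φ h ↔ Φ h')

/-- Universal topological properties pass along morphisms of thickenings. -/
theorem univSp_iff
    (Φ : ∀ {A B : Type (u + 1)} [TopologicalSpace A] [TopologicalSpace B], (A → B) → Prop)
    (hΦ : HomeoInvariant.{u} Φ) (hY : IsAlgSpace Y) (hY' : IsAlgSpace Y') (hi : IsThickMor i)
    (hj : IsThickMor j) (w : i ≫ f' = f ≫ j) :
    UnivSp (fun _ _ h => Φ (Points.map h)) f ↔ UnivSp (fun _ _ h => Φ (Points.map h)) f' := by
  constructor
  · intro hf Z P hZ g p₁ p₂ sq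
    obtain ⟨iQ, hiQ, e⟩ := exists_thick_up hi w g sq
    have hjZ : IsThickMor (pullback.snd j g) :=
      AlgSpace.repWith_baseChange (IsPullback.of_hasPullback j g) hj
    have hZ₀ := AlgSpace.isAlgSpace_of_isPullback (IsPullback.of_hasPullback j g) hY'.diag hY hZ
    refine (hΦ (ThickTopo.isHomeomorph_map hiQ).homeomorph
      (ThickTopo.isHomeomorph_map hjZ).homeomorph _ _ ?_).1
      (hf hZ₀ _ _ _ (IsPullback.of_hasPullback f (pullback.fst j g)))
    funext x
    change Points.map p₂ (Points.map iQ x) = Points.map _ (Points.map _ x)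
    rw [← Points.map_comp, e, Points.map_comp]
  · intro hf' Z Q hZ g₀ q₁ q₂ sq
    obtain ⟨iQ, hiQ, e⟩ := exists_thick_down hi hj w g₀ sq
    refine (hΦ (ThickTopo.isHomeomorph_map hiQ).homeomorph (Homeomorph.refl _) _ _ ?_).2
      (hf' hZ _ _ _ (IsPullback.of_hasPullback f' (g₀ ≫ j)))
    funext x
    change Points.map (pullback.snd f' (g₀ ≫ j)) (Points.map iQ x) = Points.map q₂ x
    rw [← Points.map_comp, e]

theorem homeoInvariant_isClosedMap : HomeoInvariant.{u} fun h => IsClosedMap h := by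
  intro A A' B B' _ _ _ _ e k h h' w
  constructor
  · intro H
    rw [show h' = k ∘ h ∘ e.symm by rw [← Function.comp_assoc, ← w]; funext x; simp]
    exact k.isClosedMap.comp (H.comp e.symm.isClosedMap)
  · intro H
    rw [show h = k.symm ∘ h' ∘ e by rw [w]; funext x; simp]
    exact k.symm.isClosedMap.comp (H.comp e.isClosedMap)

theorem homeoInvariant_isOpenMap : HomeoInvariant.{u} fun h => IsOpenMap h := by
  intro A A' B B' _ _ _ _ e k h h' w
  constructor
  · intro H
    rw [show h' = k ∘ h ∘ e.symm by rw [← Function.comp_assoc, ← w]; funext x; simp]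
    exact k.isOpenMap.comp (H.comp e.symm.isOpenMap)
  · intro H
    rw [show h = k.symm ∘ h' ∘ e by rw [w]; funext x; simp]
    exact k.symm.isOpenMap.comp (H.comp e.isOpenMap)

theorem homeoInvariant_injective : HomeoInvariant.{u} fun h => Function.Injective h := by
  intro A A' B B' _ _ _ _ e k h h' w
  change Function.Injective h ↔ Function.Injective h'
  rw [← Function.Injective.of_comp_iff' h' e.bijective, w,
    Function.Injective.of_comp_iff k.injective]

theorem isSurjectiveMor_iff (hi : IsThickMor i) (hj : IsThickMor j) (w : i ≫ f' = f ≫ j) :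
    IsSurjectiveMor f ↔ IsSurjectiveMor f' := by
  change Function.Surjective (Points.map f) ↔ Function.Surjective (Points.map f')
  have hc : Points.map f' ∘ Points.map i = Points.map j ∘ Points.map f := funext fun x => by
    change Points.map f' (Points.map i x) = Points.map j (Points.map f x)
    rw [← Points.map_comp, w, Points.map_comp]
  rw [← Function.Surjective.of_comp_iff (Points.map f') (ThickTopo.isHomeomorph_map hi).bijective.2,
    hc, Function.Surjective.of_comp_iff' (ThickTopo.isHomeomorph_map hj).bijective]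

theorem isQuasiCompactMor_iff (hX : IsAlgSpace X) (hX' : IsAlgSpace X') (hY : IsAlgSpace Y)
    (hY' : IsAlgSpace Y') (hi : IsThickMor i) (hj : IsThickMor j) (w : i ≫ f' = f ≫ j) :
    IsQuasiCompactMor f ↔ IsQuasiCompactMor f' := by
  constructor
  · intro hf Z P hZ hZq g p₁ p₂ sq
    obtain ⟨iQ, hiQ, -⟩ := exists_thick_up hi w g sq
    have hjZ : IsThickMor (pullback.snd j g) :=
      AlgSpace.repWith_baseChange (IsPullback.of_hasPullback j g) hj
    have hZ₀ := AlgSpace.isAlgSpace_of_isPullback (IsPullback.of_hasPullback j g) hY'.diag hY hZ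
    have hP := AlgSpace.isAlgSpace_of_isPullback sq hY'.diag hX' hZ
    have hQ := AlgSpace.isAlgSpace_of_isPullback
      (IsPullback.of_hasPullback f (pullback.fst j g)) hY.diag hX hZ₀
    have := AlgSpMor.QC.compactSpace_points hZq
    have : CompactSpace (Points (pullback j g)) :=
      (ThickTopo.isHomeomorph_map hjZ).homeomorph.symm.compactSpace
    have := AlgSpMor.QC.compactSpace_points (hf hZ₀ ((AlgSpMor.QC.isQuasiCompactSp_iff hZ₀).2 ‹_›)
      _ _ _ (IsPullback.of_hasPullback f (pullback.fst j g)))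
    exact (AlgSpMor.QC.isQuasiCompactSp_iff hP).2
      (ThickTopo.isHomeomorph_map hiQ).homeomorph.compactSpace
  · intro hf' Z Q hZ hZq g₀ q₁ q₂ sq
    obtain ⟨iQ, hiQ, -⟩ := exists_thick_down hi hj w g₀ sq
    have hQ := AlgSpace.isAlgSpace_of_isPullback sq hY.diag hX hZ
    have := AlgSpMor.QC.compactSpace_points (hf' hZ hZq _ _ _ (IsPullback.of_hasPullback f' (g₀ ≫ j)))
    exact (AlgSpMor.QC.isQuasiCompactSp_iff hQ).2
      (ThickTopo.isHomeomorph_map hiQ).homeomorph.symm.compactSpace

end Groth.Agent.Lib.AlgSpFormal.ThickSquare
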