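import Groth.Agent.Lib.AlgSpFormal.UnivDesc
import Mathlib.AlgebraicGeometry.Morphisms.FlatMono

/-!
# Etale schemes over a square-zero closed subscheme lift locally exactly
-/

universe u

open CategoryTheory CategoryTheory.Limits AlgebraicGeometry

namespace Groth.Agent.Lib.AlgSpFormal.ExactLift

/-- Near every point, an etale scheme over a square-zero closed subscheme of an affine scheme is
open in the restriction of an etale scheme over the affine scheme. -/
theorem exists_exact_lift {T T' : Scheme.{u}} (t : T ⟶ T') [IsClosedImmersion t] [IsAffine T']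
    (hI : RingHom.ker t.appTop.hom ^ 2 = ⊥) {W : Scheme.{u}} (π : W ⟶ T) [Etale π] (w : W) :
    ∃ (B : Scheme.{u}) (_ : IsAffine B) (e : B ⟶ T') (_ : Etale e) (m : pullback t e ⟶ W),
      IsOpenImmersion m ∧ m ≫ π = pullback.fst t e ∧ w ∈ Set.range m := by
  have hcl : IsClosedImmersion (t ≫ T'.isoSpec.hom) := inferInstance
  obtain ⟨I, ψ, hψ⟩ := IsClosedImmersion.Spec_iff.mp hcl
  have : IsClosedImmersion (Spec.map (CommRingCat.ofHom (Ideal.Quotient.mk I))) :=
    IsClosedImmersion.spec_of_surjective _ Ideal.Quotient.mk_surjective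
  have sq₀ : IsPullback ψ.inv (Spec.map (CommRingCat.ofHom (Ideal.Quotient.mk I))) t
      T'.isoSpec.inv := IsPullback.of_horiz_isIso ⟨by
    rw [← cancel_mono T'.isoSpec.hom, Category.assoc, Category.assoc, hψ, Iso.inv_hom_id_assoc,
      Iso.inv_hom_id, Category.comp_id]⟩
  have hI' : I ^ 2 = ⊥ := by
    apply Univ.sq_eq_bot_of_ker_appTop
    rw [ThickBC.ker_appTop_eq_map sq₀, ← Ideal.map_pow, hI, Ideal.map_bot]
  obtain ⟨B, e, he, m, O, ι, hι, σ, hm, hσ, x, hx⟩ :=
    EtaleLift.exists_etale_lift_retract I hI' (π ≫ ψ.hom) w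
  have : Surjective (Spec.map (CommRingCat.ofHom (Ideal.Quotient.mk I))) :=
    ⟨Descend.surjective_specMap_mk I hI'⟩
  have hσe : Etale σ := by
    have : Etale (σ ≫ pullback.fst (Spec.map (CommRingCat.ofHom (Ideal.Quotient.mk I))) e) := by
      rw [← hm, reassoc_of% hσ]; infer_instance
    exact MorphismProperty.of_postcomp (W := @Etale) (W' := @Etale) σ
      (pullback.fst (Spec.map (CommRingCat.ofHom (Ideal.Quotient.mk I))) e) inferInstance this
  have hσm : Mono σ := by
    have : Mono (σ ≫ m) := hσ ▸ inferInstance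
    exact mono_of_mono σ m
  have hσo : IsOpenImmersion σ := IsOpenImmersion.of_flat_of_mono σ
  let s := pullback.snd (Spec.map (CommRingCat.ofHom (Ideal.Quotient.mk I))) e
  have hsc : IsClosedImmersion s := inferInstance
  have hsb : Function.Bijective s := ⟨s.isClosedEmbedding.injective, s.surjective⟩
  have hopen : IsOpen (s '' Set.range σ) := by
    rw [← isClosed_compl_iff, ← Set.image_compl_eq hsb]
    exact s.isClosedEmbedding.isClosedMap _ σ.isOpenEmbedding.isOpen_range.isClosed_compl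
  obtain ⟨_, ⟨G, hG, rfl⟩, hxG, hGsub⟩ :=
    (Spec B).isBasis_affineOpens.exists_subset_of_mem_open (show s (σ x) ∈ s '' Set.range σ from
      Set.mem_image_of_mem _ ⟨x, rfl⟩) hopen
  let e' : (G : Scheme.{u}) ⟶ T' := Scheme.Opens.ι G ≫ e ≫ T'.isoSpec.inv
  let κ : pullback t e' ⟶ pullback (Spec.map (CommRingCat.ofHom (Ideal.Quotient.mk I))) e :=
    pullback.map t e' _ _ ψ.hom (Scheme.Opens.ι G) T'.isoSpec.hom hψ (by simp [e'])
  have hκo : IsOpenImmersion κ := inferInstance
  have hκs : ∀ z, s (κ z) = Scheme.Opens.ι G (pullback.snd t e' z) := fun z => by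
    rw [← Scheme.Hom.comp_apply, ← Scheme.Hom.comp_apply]
    exact congrArg (fun φ : _ ⟶ Spec B => φ z) (pullback.lift_snd _ _ _)
  have hsub : Set.range κ ⊆ Set.range σ := by
    rintro _ ⟨z, rfl⟩
    obtain ⟨y, hy, hy'⟩ := hGsub (show s (κ z) ∈ (G : Set (Spec B)) from by
      rw [hκs]; exact (pullback.snd t e' z).2)
    rw [← hsb.1 hy']
    exact hy
  let l := IsOpenImmersion.lift σ κ hsub
  have hl : l ≫ σ = κ := IsOpenImmersion.lift_fac _ _ _
  have hlo : IsOpenImmersion l := by
    have : IsOpenImmersion (l ≫ σ) := hl ▸ hκo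
    exact IsOpenImmersion.of_comp l σ
  refine ⟨(G : Scheme.{u}), hG, e', inferInstance, κ ≫ m, ?_, ?_, ?_⟩
  · rw [← hl, Category.assoc, hσ]; infer_instance
  · rw [← cancel_mono ψ.hom, Category.assoc, Category.assoc, hm]
    exact pullback.lift_fst _ _ _
  · have hxG' : s (σ x) ∈ G := hxG
    obtain ⟨z, hz, hz'⟩ := Scheme.exists_preimage_of_isPullback
      (IsPullback.of_hasPullback t e').flip ⟨s (σ x), hxG'⟩
      (ψ.inv (pullback.fst (Spec.map (CommRingCat.ofHom (Ideal.Quotient.mk I))) e (σ x)))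
      (congrArg (fun φ : _ ⟶ T' => φ (σ x))
        (show s ≫ e ≫ T'.isoSpec.inv = pullback.fst _ _ ≫ ψ.inv ≫ t by
          rw [sq₀.w, pullback.condition_assoc]))
    refine ⟨z, ?_⟩
    have : κ z = σ x := hsb.1 (by rw [hκs, hz]; rfl)
    rw [Scheme.Hom.comp_apply, this, ← Scheme.Hom.comp_apply, hσ, hx]

end Groth.Agent.Lib.AlgSpFormal.ExactLift
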