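import Groth.Agent.Lib.AlgSpFormal.Univ

/-!
# First order infinitesimal neighbourhoods are universal thickenings
-/

universe u

open CategoryTheory CategoryTheory.Limits AlgebraicGeometry Opposite AlgSp

namespace Groth.Agent.Lib.AlgSpFormal.InfNbhd

variable {S : Scheme.{u}}

/-- A map from a scheme lifts locally, on etale neighbourhoods, to affine etale charts. -/
theorem exists_chart_cover {G : Sp S} (hG : IsAlgSpace G) {V : Over S} (c : (yon S).obj V ⟶ G)
    (x : ↥V.left) :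
    ∃ (Z Q : Over S) (g : Z ⟶ V) (k : Z ⟶ Q) (cQ : (yon S).obj Q ⟶ G),
      IsAffine Z.left ∧ IsAffine Q.left ∧ Etale g.left ∧ RepWith @Etale cQ ∧
      x ∈ Set.range g.left ∧ (yon S).map k ≫ cQ = (yon S).map g ≫ c := by
  obtain ⟨U, p, hp, hps⟩ := hG.atlas
  have : Etale (hp.1.snd c).left := hp.2 c _ _ (hp.1.isPullback c)
  have : Surjective (hp.1.snd c).left := hps.2 c _ _ (hp.1.isPullback c)
  obtain ⟨r, hr⟩ := (yon S).map_surjective (hp.1.fst c)
  obtain ⟨w, rfl⟩ := (hp.1.snd c).left.surjective x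
  obtain ⟨_, ⟨Q, hQ, rfl⟩, hwQ, -⟩ :=
    U.left.isBasis_affineOpens.exists_subset_of_mem_open (Set.mem_univ (r.left w)) isOpen_univ
  obtain ⟨_, ⟨O, hO, rfl⟩, hwO, hOQ⟩ :=
    (hp.1.pullback c).left.isBasis_affineOpens.exists_subset_of_mem_open hwQ
      (r.left ⁻¹ᵁ Q).isOpen
  have hOQ : O ≤ r.left ⁻¹ᵁ Q := hOQ
  let Z : Over S := Over.mk ((Scheme.Opens.ι O) ≫ (hp.1.pullback c).hom)
  let QS : Over S := Over.mk ((Scheme.Opens.ι Q) ≫ U.hom)
  let g : Z ⟶ V := (Over.homMk (Scheme.Opens.ι O) rfl : Z ⟶ hp.1.pullback c) ≫ hp.1.snd c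
  let k : Z ⟶ QS := Over.homMk (r.left.resLE Q O hOQ) (by
    simp [Z, QS, Scheme.Hom.resLE_comp_ι_assoc])
  let cQ : (yon S).obj QS ⟶ G := (yon S).map (Over.homMk (Scheme.Opens.ι Q) rfl : QS ⟶ U) ≫ p
  refine ⟨Z, QS, g, k, cQ, hO, hQ, inferInstanceAs (Etale ((Scheme.Opens.ι O) ≫ (hp.1.snd c).left)),
    AlgSpace.repWith_yon_map_comp (inferInstanceAs (Etale (Scheme.Opens.ι Q))) hp, ⟨⟨w, hwO⟩, rfl⟩, ?_⟩
  simp only [cQ, g, Functor.map_comp, Category.assoc, ← hp.1.w c, ← hr]
  rw [← Functor.map_comp_assoc, ← Functor.map_comp_assoc]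
  congr 2
  ext : 1
  exact Scheme.Hom.resLE_comp_ι _ _

/-- The kernel of a base change vanishes to a given order if it does so locally. -/
theorem ker_pow_eq_bot_of_cover {F G : Sp S} {i : F ⟶ G} (hi : RepWith @IsClosedImmersion i)
    (n : ℕ) {V W : Over S} [hV : IsAffine V.left] {c : (yon S).obj V ⟶ G}
    {fst : (yon S).obj W ⟶ F} {snd : W ⟶ V} (sq : IsPullback fst ((yon S).map snd) i c)
    (H : ∀ x : ↥V.left, ∃ (Z : Over S) (g : Z ⟶ V), IsAffine Z.left ∧ Etale g.left ∧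
      x ∈ Set.range g.left ∧
      RingHom.ker (hi.1.snd ((yon S).map g ≫ c)).left.appTop.hom ^ n = ⊥) :
    RingHom.ker snd.left.appTop.hom ^ n = ⊥ := by
  choose Z g hZ hg hgx hk using H
  rw [eq_bot_iff]
  intro z hz
  refine Ideal.mem_bot.2 (ThickBC.eq_zero_of_flat_cover (fun x => (g x).left)
    (fun x => have := hg x; inferInstance) (fun x => ⟨x, hgx x⟩) z fun x => ?_)
  obtain ⟨m, sq'⟩ := ThickBC.exists_isPullback_restrict sq (g x) rfl
    (hi.1.isPullback ((yon S).map (g x) ≫ c))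
  have : IsClosedImmersion ((Over.forget S).map snd) := hi.2 c fst snd sq
  have : IsAffine ((Over.forget S).obj V) := hV
  have : IsAffine ((Over.forget S).obj (Z x)) := hZ x
  have e := ThickBC.ker_appTop_eq_map (sq'.map (Over.forget S))
  have hk' : RingHom.ker ((Over.forget S).map (hi.1.snd ((yon S).map (g x) ≫ c))).appTop.hom ^ n =
    ⊥ := hk x
  rw [e, ← Ideal.map_pow] at hk'
  exact Ideal.mem_bot.1 (hk'.le (Ideal.mem_map_of_mem _ hz))

variable {Z U Z₁ : Sp S} {c : Z ⟶ U} {j : Z ⟶ Z₁} {k : Z₁ ⟶ U}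

theorem mono_of_closedImmersion {F G : Sp S} {f : F ⟶ G} (hf : RepWith @IsClosedImmersion f) :
    Mono f :=
  AlgSpace.mono_of_repWith (fun _ _ g (hg : IsClosedImmersion g) =>
    (inferInstanceAs (Mono g) : MorphismProperty.monomorphisms Scheme.{u} g)) hf

theorem repWith_closedImmersion_j (hN : IsInfNbhd 1 c j k) : RepWith @IsClosedImmersion j := by
  have := mono_of_closedImmersion hN.2.2.1
  refine AlgSpace.repWith_baseChange (fst := 𝟙 Z) (g := k) ?_ hN.2.1
  refine IsPullback.of_iso_pullback ⟨by rw [Category.id_comp, hN.1]⟩ ?_ ?_ ?_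
  · exact (IsPullback.isoPullback (f := c) (g := k) (fst := 𝟙 Z) (snd := j)
      (AlgSpace.isPullback_of_yon (by rw [Category.id_comp, hN.1])
        (fun T a a' h _ => by simpa using h)
        fun T a b h => ⟨a, Category.comp_id a,
          (cancel_mono k).1 (by rw [Category.assoc, hN.1, h])⟩))
  · exact IsPullback.isoPullback_hom_fst _
  · exact IsPullback.isoPullback_hom_snd _

/-- On affine etale charts of the ambient space, the neighbourhood is a first order thickening. -/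
theorem chart_data (hN : IsInfNbhd 1 c j k) {Q : Over S} [hQ : IsAffine Q.left]
    (cQ : (yon S).obj Q ⟶ U) (hcQ : RepWith @Etale cQ) :
    ∃ (W : Over S) (fstW : (yon S).obj W ⟶ Z) (m : W ⟶ hN.2.2.1.1.pullback cQ),
      IsAffine (hN.2.2.1.1.pullback cQ).left ∧
      IsPullback fstW ((yon S).map m) j (hN.2.2.1.1.fst cQ) ∧
      IsFOThickMor ((yon S).map m) := by
  have hc := hN.2.1
  have hk := hN.2.2.1
  have sqc := hc.1.isPullback cQ
  have sqk := hk.1.isPullback cQ
  let m : hc.1.pullback cQ ⟶ hk.1.pullback cQ := hk.1.lift (g := cQ) (hc.1.fst cQ ≫ j)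
    (hc.1.snd cQ) (by rw [Category.assoc, hN.1, hc.1.w])
  have hm₁ : (yon S).map m ≫ hk.1.fst cQ = hc.1.fst cQ ≫ j := hk.1.lift_fst _ _ _
  have hm₂ : m ≫ hk.1.snd cQ = hc.1.snd cQ := hk.1.lift_snd _ _ _
  have hclc : IsClosedImmersion (hc.1.snd cQ).left := hc.2 cQ _ _ sqc
  have hclk : IsClosedImmersion (hk.1.snd cQ).left := hk.2 cQ _ _ sqk
  have hAff : IsAffine (hk.1.pullback cQ).left := isAffine_of_isAffineHom (hk.1.snd cQ).left
  have sqj : IsPullback (hc.1.fst cQ) ((yon S).map m) j (hk.1.fst cQ) := by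
    refine IsPullback.of_bot ?_ hm₁.symm sqk
    rw [← Functor.map_comp, hm₂, hN.1]
    exact sqc
  refine ⟨_, _, m, hAff, sqj, ?_⟩
  have : IsClosedImmersion m.left := (repWith_closedImmersion_j hN).2 _ _ _ sqj
  have hker : (hk.1.snd cQ).left.ker = (hc.1.snd cQ).left.ker ^ 2 :=
    hN.2.2.2 cQ _ _ _ _ hQ hcQ sqc sqk
  have hker' : RingHom.ker (hk.1.snd cQ).left.appTop.hom =
      RingHom.ker (hc.1.snd cQ).left.appTop.hom ^ 2 := by
    have h := congrArg (fun I : Q.left.IdealSheafData => I.ideal ⟨⊤, isAffineOpen_top _⟩) hker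
    rw [Scheme.IdealSheafData.ideal_pow, Pi.pow_apply, Scheme.Hom.ker_apply,
      Scheme.Hom.ker_apply] at h
    exact h
  refine Yon.isFOThickMor_yon_map m ?_
  have hsurj : Function.Surjective (hk.1.snd cQ).left.appTop.hom :=
    (hk.1.snd cQ).left.app_surjective ⊤ (isAffineOpen_top _)
  have e : RingHom.ker m.left.appTop.hom =
      (RingHom.ker (hc.1.snd cQ).left.appTop.hom).map (hk.1.snd cQ).left.appTop.hom := by
    rw [← Ideal.map_comap_of_surjective _ hsurj (RingHom.ker m.left.appTop.hom), RingHom.comap_ker,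
      ← CommRingCat.hom_comp, ← Scheme.Hom.comp_appTop, ← Over.comp_left, hm₂]
  rw [e, ← Ideal.map_pow, ← hker']
  exact (Ideal.map_eq_bot_iff_le_ker _).2 le_rfl

/-- A point of a scheme over the neighbourhood lifts to affine charts of the ambient space. -/
theorem cover_data (hU : IsAlgSpace U) (hN : IsInfNbhd 1 c j k) {V : Over S}
    (a : (yon S).obj V ⟶ Z₁) (x : ↥V.left) :
    ∃ (Y Q : Over S) (g : Y ⟶ V) (cQ : (yon S).obj Q ⟶ U)
      (l : Y ⟶ hN.2.2.1.1.pullback cQ),
      IsAffine Y.left ∧ IsAffine Q.left ∧ RepWith @Etale cQ ∧ Etale g.left ∧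
      x ∈ Set.range g.left ∧ (yon S).map l ≫ hN.2.2.1.1.fst cQ = (yon S).map g ≫ a := by
  obtain ⟨Y, Q, g, q, cQ, hY, hQ, hg, hcQ, hx, hq⟩ := exists_chart_cover hU (a ≫ k) x
  exact ⟨Y, Q, g, cQ, hN.2.2.1.1.lift ((yon S).map g ≫ a) q (by rw [Category.assoc, hq]),
    hY, hQ, hcQ, hg, hx, hN.2.2.1.1.lift_fst _ _ _⟩

theorem isFOThickMor_of_infNbhd (hU : IsAlgSpace U) (hN : IsInfNbhd 1 c j k) :
    IsFOThickMor j := by
  have hj := repWith_closedImmersion_j hN
  refine ⟨⟨hj.1, fun V W a fst snd sq => ⟨hj.2 a fst snd sq, ?_⟩⟩, fun V W a fst snd hV _ sq => ?_⟩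
  · refine ⟨fun x => ?_⟩
    obtain ⟨Y, Q, g, cQ, l, hY, hQ, hcQ, hg, ⟨y, rfl⟩, hl⟩ := cover_data hU hN a x
    obtain ⟨W₀, fstW, m, hAff, sqm, hFO⟩ := chart_data (hQ := hQ) hN cQ hcQ
    have sqY := hj.1.isPullback ((yon S).map g ≫ a)
    obtain ⟨p, hp⟩ := ThickBC.exists_isPullback_restrict sqm l hl sqY
    obtain ⟨p', hp'⟩ := ThickBC.exists_isPullback_restrict sq g rfl sqY
    have : Surjective m.left := ((isThickMor_yon_map_iff m).1 hFO.1).2
    obtain ⟨w, hw⟩ := m.left.surjective (l.left y)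
    obtain ⟨z, -, hz⟩ := Scheme.exists_preimage_of_isPullback (hp.map (Over.forget S)) w y hw
    refine ⟨p'.left z, ?_⟩
    refine Eq.trans ?_ (congrArg g.left hz)
    exact congrArg (fun φ => φ z) (congrArg (fun φ : _ ⟶ V => φ.left) hp'.w)
  · have := hV
    have : IsClosedImmersion snd.left := hj.2 a fst snd sq
    refine Yon.ker_mul_ker_eq_bot _ ?_
    exact ker_pow_eq_bot_of_cover hj 2 sq fun x => by
        obtain ⟨Y, Q, g, cQ, l, hY, hQ, hcQ, hg, hx, hl⟩ := cover_data hU hN a x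
        obtain ⟨W₀, fstW, m, hAff, sqm, hFO⟩ := chart_data (hQ := hQ) hN cQ hcQ
        refine ⟨Y, g, hY, hg, hx, ?_⟩
        obtain ⟨p, hp⟩ := ThickBC.exists_isPullback_restrict sqm l hl
          (hj.1.isPullback ((yon S).map g ≫ a))
        have : IsClosedImmersion ((Over.forget S).map m) := hj.2 _ _ _ sqm
        have : IsAffine ((Over.forget S).obj (hN.2.2.1.1.pullback cQ)) := hAff
        have : IsAffine ((Over.forget S).obj Y) := hY
        have e := ThickBC.ker_appTop_eq_map (hp.map (Over.forget S))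
        have h2 : RingHom.ker ((Over.forget S).map m).appTop.hom ^ 2 = ⊥ :=
          haveI := hAff
          Yon.ker_appTop_sq_of_ker_mul_ker _ (AffLocT.yon_map hAff hFO.2)
        exact (congrArg (· ^ 2) e).trans
          ((Ideal.map_pow _ _ _).symm.trans ((congrArg (Ideal.map _) h2).trans Ideal.map_bot))

/-- The first order neighbourhood receives every first order thickening of the closed subspace. -/
theorem univ_of_infNbhd (hU : IsAlgSpace U) (hN : IsInfNbhd 1 c j k) :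
    ∀ (T T' : Over S) (t : T ⟶ T'), IsAffine T'.left → IsFOThickMor ((yon S).map t) →
      ∀ (a : (yon S).obj T ⟶ Z) (b : (yon S).obj T' ⟶ U), (yon S).map t ≫ b = a ≫ c →
        ∃! a' : (yon S).obj T' ⟶ Z₁, (yon S).map t ≫ a' = a ≫ j ∧ a' ≫ k = b := by
  intro T T' t hT' ht a b hab
  have := mono_of_closedImmersion hN.2.2.1
  have hk := hN.2.2.1
  have hc := hN.2.1
  have : IsClosedImmersion (hk.1.snd b).left := hk.2 b _ _ (hk.1.isPullback b)
  have hzero : RingHom.ker (hk.1.snd b).left.appTop.hom ^ 1 = ⊥ := by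
    refine ker_pow_eq_bot_of_cover hk 1 (hk.1.isPullback b) fun x => ?_
    obtain ⟨Y, Q, g, q, cQ, hY, hQ, hg, hcQ, hx, hq⟩ := exists_chart_cover hU b x
    refine ⟨Y, g, hY, hg, hx, ?_⟩
    obtain ⟨p, hp⟩ := ThickBC.exists_isPullback_restrict (hk.1.isPullback cQ) q hq
      (hk.1.isPullback ((yon S).map g ≫ b))
    have hclk : IsClosedImmersion ((Over.forget S).map (hk.1.snd cQ)) :=
      hk.2 cQ _ _ (hk.1.isPullback cQ)
    have hclc : IsClosedImmersion ((Over.forget S).map (hc.1.snd cQ)) :=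
      hc.2 cQ _ _ (hc.1.isPullback cQ)
    have : IsAffine ((Over.forget S).obj Q) := hQ
    have : IsAffine ((Over.forget S).obj Y) := hY
    have : IsAffine Y.left := hY
    have e := ThickBC.ker_appTop_eq_map (hp.map (Over.forget S))
    change RingHom.ker ((Over.forget S).map _).appTop.hom ^ 1 = ⊥
    refine (pow_one _).trans ?_
    rw [e]
    have hker : (hk.1.snd cQ).left.ker = (hc.1.snd cQ).left.ker ^ 2 :=
      hN.2.2.2 cQ _ _ _ _ hQ hcQ (hc.1.isPullback cQ) (hk.1.isPullback cQ)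
    have hker' : RingHom.ker ((Over.forget S).map (hk.1.snd cQ)).appTop.hom =
        RingHom.ker ((Over.forget S).map (hc.1.snd cQ)).appTop.hom ^ 2 := by
      have h := congrArg (fun I : Q.left.IdealSheafData => I.ideal ⟨⊤, isAffineOpen_top _⟩) hker
      have : IsAffine Q.left := hQ
      have : IsClosedImmersion (hk.1.snd cQ).left := hclk
      have : IsClosedImmersion (hc.1.snd cQ).left := hclc
      rw [Scheme.IdealSheafData.ideal_pow, Pi.pow_apply, Scheme.Hom.ker_apply,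
        Scheme.Hom.ker_apply] at h
      exact h
    rw [hker', Ideal.map_pow]
    obtain ⟨hclY, hY2⟩ := ThickBC.ker_sq_of_affine ht (IsAlgSpace.yon_obj T')
      (ht.1.1.isPullback ((yon S).map g))
    let n : ht.1.1.pullback ((yon S).map g) ⟶ hc.1.pullback cQ :=
      hc.1.lift (g := cQ) (ht.1.1.fst ((yon S).map g) ≫ a) (ht.1.1.snd ((yon S).map g) ≫ q) (by
        rw [Category.assoc, ← hab, reassoc_of% ht.1.1.w ((yon S).map g), Functor.map_comp,
          Category.assoc, hq])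
    have hn : n ≫ hc.1.snd cQ = ht.1.1.snd ((yon S).map g) ≫ q := hc.1.lift_snd _ _ _
    have hle : (RingHom.ker ((Over.forget S).map (hc.1.snd cQ)).appTop.hom).map
        ((Over.forget S).map q).appTop.hom ≤
          RingHom.ker (ht.1.1.snd ((yon S).map g)).left.appTop.hom := by
      refine Ideal.map_le_iff_le_comap.2 fun z hz => ?_
      change (ht.1.1.snd ((yon S).map g) ≫ q).left.appTop z = 0
      rw [← hn]
      exact (congrArg (fun x => n.left.appTop x) hz).trans (map_zero _)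
    exact le_bot_iff.1 ((Ideal.pow_right_mono hle 2).trans hY2.le)
  rw [pow_one] at hzero
  have : IsIso (hk.1.snd b).left := IsClosedImmersion.isIso_of_injective_of_isAffine
    ((RingHom.injective_iff_ker_eq_bot _).2 hzero)
  have : IsIso ((Over.forget S).map (hk.1.snd b)) := this
  have : IsIso (hk.1.snd b) := isIso_of_reflects_iso _ (Over.forget S)
  have hb : ((yon S).map (inv (hk.1.snd b)) ≫ hk.1.fst b) ≫ k = b := by
    rw [Category.assoc, hk.1.w, ← Functor.map_comp_assoc, IsIso.inv_hom_id,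
      CategoryTheory.Functor.map_id, Category.id_comp]
  refine ⟨_, ⟨(cancel_mono k).1 ?_, hb⟩, fun a' ha' => (cancel_mono k).1 (ha'.2.trans hb.symm)⟩
  rw [Category.assoc, hb, hab, Category.assoc, hN.1]

end Groth.Agent.Lib.AlgSpFormal.InfNbhd
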