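import Groth.Agent.Lib.AlgSpFormal.Yon
import Groth.Agent.Lib.AlgSpace.OpenSub
import Mathlib.AlgebraicGeometry.PullbackCarrier

/-!
# Gluing lifts along thickenings of algebraic spaces
-/

universe u

open CategoryTheory CategoryTheory.Limits AlgebraicGeometry Opposite AlgSp

namespace Groth.Agent.Lib.AlgSpFormal.Lift

/-- Etale morphisms of schemes compose. -/
instance etale_comp : MorphismProperty.IsStableUnderComposition
    (@Etale : MorphismProperty Scheme.{u}) :=
  ⟨fun f g (_ : Etale f) (_ : Etale g) => inferInstanceAs (Etale (f ≫ g))⟩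

/-- Surjective morphisms of schemes compose. -/
instance surjective_comp : MorphismProperty.IsStableUnderComposition
    (@Surjective : MorphismProperty Scheme.{u}) :=
  ⟨fun f g (_ : Surjective f) (_ : Surjective g) => inferInstanceAs (Surjective (f ≫ g))⟩

variable {S : Scheme.{u}} {F G T T' : Sp S} {j : T ⟶ T'} (hj : Representable j) (f : F ⟶ G)

/-- On the chart `c` there is at most one lift extending `a`. -/
def AtMostOne (a : T ⟶ F) {V : Over S} (c : (yon S).obj V ⟶ T') : Prop :=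
  ∀ l l' : (yon S).obj V ⟶ F, (yon S).map (hj.snd c) ≫ l = hj.fst c ≫ a →
    (yon S).map (hj.snd c) ≫ l' = hj.fst c ≫ a → l ≫ f = l' ≫ f → l = l'

/-- A lift condition on a chart restricts along maps of charts. -/
theorem restrict_cond {V V' : Over S} {c : (yon S).obj V ⟶ T'} {c' : (yon S).obj V' ⟶ T'}
    (q : V' ⟶ V) (hq : (yon S).map q ≫ c = c') {m : (yon S).obj V ⟶ F} {a : T ⟶ F}
    (hm : (yon S).map (hj.snd c) ≫ m = hj.fst c ≫ a) :
    (yon S).map (hj.snd c') ≫ (yon S).map q ≫ m = hj.fst c' ≫ a := by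
  have w : hj.fst c' ≫ j = (yon S).map (hj.snd c' ≫ q) ≫ c := by
    rw [hj.w, Functor.map_comp, Category.assoc, hq]
  have h := congrArg ((yon S).map (hj.lift (hj.fst c') (hj.snd c' ≫ q) w) ≫ ·) hm
  simp only [← Category.assoc, hj.lift_fst, ← Functor.map_comp, hj.lift_snd] at h
  rw [← Functor.map_comp_assoc]
  simpa only [Category.assoc] using h

variable {a : T ⟶ F} (H : ∀ (V : Over S) (c : (yon S).obj V ⟶ T'), IsAffine V.left →
  RepWith @Etale c → AtMostOne hj f a c)

include H in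
/-- At most one lift on affine etale charts gives at most one lift on all etale charts. -/
theorem atMostOne_chart {V : Over S} (c : (yon S).obj V ⟶ T') (hc : RepWith @Etale c) :
    AtMostOne hj f a c := by
  intro l l' h₁ h₁' h₂
  let 𝒰 := V.left.affineCover
  let Z : 𝒰.I₀ → Over S := fun i => Over.mk (𝒰.f i ≫ V.hom)
  let g : ∀ i, Z i ⟶ V := fun i => Over.homMk (𝒰.f i) rfl
  refine AlgSpace.hom_ext_of_family Z g (AlgSpace.ofArrows_mem_J Z g
    (fun i => inferInstanceAs (Flat (𝒰.f i)))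
    (fun i => inferInstanceAs (LocallyOfFinitePresentation (𝒰.f i)))
    (fun x => by obtain ⟨i, y, hy⟩ := 𝒰.exists_eq x; exact ⟨i, y, hy⟩)) fun i => ?_
  exact H _ _ (inferInstanceAs (IsAffine (𝒰.X i)))
    (AlgSpace.repWith_yon_map_comp (show Etale (g i).left from inferInstanceAs (Etale (𝒰.f i))) hc)
    _ _ (restrict_cond hj (g i) rfl h₁) (restrict_cond hj (g i) rfl h₁') (by rw [Category.assoc, Category.assoc, h₂])

include H in
/-- Global uniqueness of lifts. -/
theorem glue_unique (hT' : IsAlgSpace T') (l l' : T' ⟶ F) (h₁ : j ≫ l = a) (h₁' : j ≫ l' = a)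
    (h₂ : l ≫ f = l' ≫ f) : l = l' := by
  obtain ⟨U, p, hp, hps⟩ := hT'.atlas
  have := AlgSpace.isLocallySurjective_of_etale hp hps
  rw [← cancel_epi p]
  refine atMostOne_chart hj f H p hp _ _ ?_ ?_ (by rw [Category.assoc, Category.assoc, h₂])
  · rw [← reassoc_of% hj.w p, h₁]
  · rw [← reassoc_of% hj.w p, h₁']

include H in
/-- A lift on an etale atlas descends. -/
theorem glue_exists {U : Over S} (p : (yon S).obj U ⟶ T') (hp : RepWith @Etale p)
    (hps : RepWith @Surjective p) (b : T' ⟶ G) (m : (yon S).obj U ⟶ F)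
    (hm : (yon S).map (hj.snd p) ≫ m = hj.fst p ≫ a) (hm' : m ≫ f = p ≫ b) :
    ∃ l : T' ⟶ F, j ≫ l = a ∧ l ≫ f = b := by
  have := AlgSpace.isLocallySurjective_of_etale hp hps
  have sq : IsPullback ((yon S).map (hp.1.fst' p)) ((yon S).map (hp.1.snd p)) p p :=
    hp.1.isPullback' p
  have hetale : RepWith @Etale ((yon S).map (hp.1.snd p) ≫ p) :=
    AlgSpace.repWith_yon_map_comp (hp.2 p _ _ (hp.1.isPullback p)) hp
  obtain ⟨l, hl⟩ := AlgSpace.exists_desc p sq m (atMostOne_chart hj f H _ hetale _ _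
    (restrict_cond hj _ sq.w hm) (restrict_cond hj _ rfl hm)
    (by simp only [Category.assoc, hm', reassoc_of% sq.w]))
  refine ⟨l, ?_, (cancel_epi p).1 (by rw [reassoc_of% hl, hm'])⟩
  have := AlgSpace.isLocallySurjective_of_etale
    (AlgSpace.repWith_baseChange (hj.isPullback p).flip hp)
    (AlgSpace.repWith_baseChange (hj.isPullback p).flip hps)
  rw [← cancel_epi (hj.fst p), reassoc_of% hj.w p, hl, hm]

include H in
/-- Lifts on the members of an etale atlas written as a coproduct glue to a lift. -/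
theorem glue_exists_of_family {ι : Type u} (Z : ι → Over S)
    (p : (yon S).obj (AlgSpace.sigmaOver Z) ⟶ T') (hp : RepWith @Etale p)
    (hps : RepWith @Surjective p) (b : T' ⟶ G) (lx : ∀ x, (yon S).obj (Z x) ⟶ F)
    (hlx : ∀ x, (yon S).map (hj.snd ((yon S).map (AlgSpace.sigmaOverι Z x) ≫ p)) ≫ lx x =
      hj.fst ((yon S).map (AlgSpace.sigmaOverι Z x) ≫ p) ≫ a)
    (hlx' : ∀ x, lx x ≫ f = ((yon S).map (AlgSpace.sigmaOverι Z x) ≫ p) ≫ b) :
    ∃ l : T' ⟶ F, j ≫ l = a ∧ l ≫ f = b := by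
  obtain ⟨m, hm, -⟩ := AlgSpace.existsUnique_sigmaOver_desc Z lx
  refine glue_exists hj f H p hp hps b m ?_ ?_
  · let c : ∀ x, (yon S).obj (Z x) ⟶ T' := fun x => (yon S).map (AlgSpace.sigmaOverι Z x) ≫ p
    let k : ∀ x, hj.pullback (c x) ⟶ hj.pullback p := fun x =>
      hj.lift (hj.fst _) (hj.snd _ ≫ AlgSpace.sigmaOverι Z x)
        (by rw [hj.w, Functor.map_comp, Category.assoc])
    have hk : ∀ x, IsPullback (k x) (hj.snd (c x)) (hj.snd p)
        (AlgSpace.sigmaOverι Z x) := fun x => by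
      refine AlgSpace.isPullback_of_yon_map (IsPullback.of_right ?_ ?_ (hj.isPullback p))
      · rw [hj.lift_fst]
        exact hj.isPullback _
      · rw [← Functor.map_comp, ← Functor.map_comp, hj.lift_snd]
    refine AlgSpace.hom_ext_of_family _ k (AlgSpace.ofArrows_mem_J _ k (fun x => ?_) (fun x => ?_)
      fun w => ?_) fun x => ?_
    · exact MorphismProperty.of_isPullback (P := @Flat) ((hk x).map (Over.forget S)).flip
        (inferInstanceAs (Flat (Sigma.ι (fun x => (Z x).left) x)))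
    · exact MorphismProperty.of_isPullback (P := @LocallyOfFinitePresentation)
        ((hk x).map (Over.forget S)).flip
        (inferInstanceAs (LocallyOfFinitePresentation (Sigma.ι (fun x => (Z x).left) x)))
    · obtain ⟨x, y, hy⟩ := (sigmaOpenCover (fun x => (Z x).left)).exists_eq ((hj.snd p).left w)
      obtain ⟨z, hz, -⟩ := Scheme.exists_preimage_of_isPullback
        ((hk x).map (Over.forget S)) w y hy.symm
      exact ⟨x, z, hz⟩
    · rw [← Functor.map_comp_assoc, hj.lift_snd, Functor.map_comp, Category.assoc, hm x, hlx x,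
        ← Category.assoc, hj.lift_fst]
  · refine AlgSpace.hom_ext_of_family Z _ (AlgSpace.sigmaOverι_mem_J Z) fun x => ?_
    rw [reassoc_of% hm x, hlx' x, Category.assoc]

omit H in
/-- Lifts on affine etale charts give a lift on an atlas made of those charts. -/
theorem glue_exists_of_affine (hT' : IsAlgSpace T') (a : T ⟶ F) (b : T' ⟶ G)
    (H₁ : ∀ (V : Over S) (c : (yon S).obj V ⟶ T'), IsAffine V.left → RepWith @Etale c →
      AtMostOne hj f a c)
    (H₂ : ∀ (V : Over S) (c : (yon S).obj V ⟶ T'), IsAffine V.left → RepWith @Etale c →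
      ∃ l : (yon S).obj V ⟶ F, (yon S).map (hj.snd c) ≫ l = hj.fst c ≫ a ∧ l ≫ f = c ≫ b) :
    ∃ l : T' ⟶ F, j ≫ l = a ∧ l ≫ f = b := by
  obtain ⟨U, p₀, hp₀, hps₀⟩ := hT'.atlas
  have hO : ∀ x : ↥U.left, ∃ O : U.left.Opens, IsAffineOpen O ∧ x ∈ O := fun x => by
    obtain ⟨_, ⟨O, hO, rfl⟩, hx, -⟩ :=
      U.left.isBasis_affineOpens.exists_subset_of_mem_open (Set.mem_univ x) isOpen_univ
    exact ⟨O, hO, hx⟩
  choose O hO hmem using hO
  let Z : ↥U.left → Over S := fun x => Over.mk ((O x).ι ≫ U.hom)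
  let g : ∀ x, Z x ⟶ U := fun x => Over.homMk (O x).ι rfl
  have hπ : ∀ x, AlgSpace.sigmaOverι Z x ≫ AlgSpace.opensSigmaMap O = g x := fun x => by
    ext : 1
    exact Sigma.ι_desc (fun x => (O x).ι) x
  let p : (yon S).obj (AlgSpace.sigmaOver Z) ⟶ T' := (yon S).map (AlgSpace.opensSigmaMap O) ≫ p₀
  have hp : RepWith @Etale p :=
    AlgSpace.repWith_yon_map_comp (AlgSpace.etale_opensSigmaMap O) hp₀
  have hps : RepWith @Surjective p :=
    AlgSpace.repWith_yon_map_comp
      (AlgSpace.surjective_opensSigmaMap O fun x => ⟨x, hmem x⟩) hps₀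
  have hc : ∀ x, RepWith @Etale ((yon S).map (AlgSpace.sigmaOverι Z x) ≫ p) := fun x => by
    rw [← Functor.map_comp_assoc, hπ]
    exact AlgSpace.repWith_yon_map_comp
      (show Etale (g x).left from inferInstanceAs (Etale (O x).ι)) hp₀
  choose lx hlx hlx' using fun x => H₂ (Z x) _ (hO x) (hc x)
  exact glue_exists_of_family hj f H₁ Z p hp hps b lx hlx hlx'

variable {hj}

/-- The data of a first order thickening on an affine etale chart. -/
theorem affine_chart_data (hjT : IsFOThickMor j) {V : Over S} (c : (yon S).obj V ⟶ T')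
    (hV : IsAffine V.left) (hc : RepWith @Etale c) :
    IsClosedImmersion (hjT.1.1.snd c).left ∧
      RingHom.ker (hjT.1.1.snd c).left.appTop.hom ^ 2 = ⊥ := by
  have h₁ : IsClosedImmersion (hjT.1.1.snd c).left :=
    (hjT.1.2 c _ _ (hjT.1.1.isPullback c)).1
  exact ⟨h₁, Yon.ker_appTop_sq_of_ker_mul_ker _
    (hjT.2 c _ _ hV hc (hjT.1.1.isPullback c))⟩

/-- Formally unramified morphisms have at most one lift along first order thickenings. -/
theorem unique_of_thick {f : F ⟶ G} (hf : IsFormallyUnramifiedMor f) (hjT : IsFOThickMor j)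
    (hT' : IsAlgSpace T') (l l' : T' ⟶ F) (h₁ : j ≫ l = j ≫ l') (h₂ : l ≫ f = l' ≫ f) :
    l = l' :=
  glue_unique hjT.1.1 f (a := j ≫ l) (fun V c hV hc m m' e₁ e₁' e₂ =>
    have := (affine_chart_data hjT c hV hc).1
    Yon.lift_unique_of_affine hf _ (affine_chart_data hjT c hV hc).2 m m' (e₁.trans e₁'.symm) e₂)
    hT' l l' rfl h₁.symm h₂

/-- Formally etale morphisms have exactly one lift along first order thickenings. -/
theorem existsUnique_of_thick {f : F ⟶ G} (hf : IsFormallyEtaleMor f) (hjT : IsFOThickMor j)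
    (hT' : IsAlgSpace T') (a : T ⟶ F) (b : T' ⟶ G) (w : j ≫ b = a ≫ f) :
    ∃! l : T' ⟶ F, j ≫ l = a ∧ l ≫ f = b := by
  have hu := Yon.formallyUnramified_of_formallyEtale hf
  obtain ⟨l, hl⟩ := glue_exists_of_affine hjT.1.1 f hT' a b
    (fun V c hV hc m m' e₁ e₁' e₂ =>
      have := (affine_chart_data hjT c hV hc).1
      Yon.lift_unique_of_affine hu _ (affine_chart_data hjT c hV hc).2 m m' (e₁.trans e₁'.symm) e₂)
    (fun V c hV hc => by
      have := (affine_chart_data hjT c hV hc).1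
      exact (Yon.lift_existsUnique_of_affine hf _ (affine_chart_data hjT c hV hc).2 _ _
        (by rw [Category.assoc, ← w, reassoc_of% hjT.1.1.w c])).exists)
  exact ⟨l, hl, fun l' hl' =>
    unique_of_thick hu hjT hT' l' l (hl'.1.trans hl.1.symm) (hl'.2.trans hl.2.symm)⟩

end Groth.Agent.Lib.AlgSpFormal.Lift
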