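import Groth.Agent.Lib.AlgSpFormal.Lift
import Mathlib.RingTheory.RingHom.FaithfullyFlat
import Mathlib.RingTheory.Flat.FaithfullyFlat.Algebra

/-!
# Base change of first order thickenings of algebraic spaces
-/

universe u

open CategoryTheory CategoryTheory.Limits AlgebraicGeometry Opposite AlgSp

namespace Groth.Agent.Lib.AlgSpFormal.ThickBC

/-- Global functions are detected on a jointly surjective family of flat morphisms. -/
theorem eq_zero_of_flat_cover {X : Scheme.{u}} {ι : Type*} {Y : ι → Scheme.{u}}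
    (f : ∀ i, Y i ⟶ X) (hf : ∀ i, Flat (f i)) (h : ∀ x, ∃ i y, f i y = x) (s : Γ(X, ⊤))
    (hs : ∀ i, (f i).appTop s = 0) : s = 0 := by
  refine TopCat.Presheaf.section_ext X.sheaf ⊤ s 0 fun x hx => ?_
  refine Eq.trans ?_ (map_zero (X.sheaf.presheaf.germ ⊤ x hx).hom).symm
  obtain ⟨i, y, rfl⟩ := h x
  have hinj : Function.Injective ((f i).stalkMap y).hom := by
    algebraize [((f i).stalkMap y).hom]
    have : Module.FaithfullyFlat (X.presheaf.stalk (f i y)) ((Y i).presheaf.stalk y) :=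
      @Module.FaithfullyFlat.of_flat_of_isLocalHom _ _ _ _ _ _ _
        (Flat.stalkMap (f i) y) ((f i).toLRSHom.prop y)
    exact ‹RingHom.FaithfullyFlat _›.injective
  apply hinj
  have e1 := Scheme.Hom.germ_stalkMap_apply (f i) ⊤ y hx s
  refine Eq.trans ?_ (map_zero ((f i).stalkMap y).hom).symm
  exact e1.trans ((congrArg _ (hs i)).trans (map_zero _))

variable {S : Scheme.{u}} {F G : Sp S} {i : F ⟶ G}

/-- Restricting a represented pullback along a map of test schemes. -/
theorem exists_isPullback_restrict {V W V' W' : Over S} {c : (yon S).obj V ⟶ G}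
    {fst : (yon S).obj W ⟶ F} {snd : W ⟶ V} (sq : IsPullback fst ((yon S).map snd) i c)
    (k : V' ⟶ V) {c' : (yon S).obj V' ⟶ G} (hk : (yon S).map k ≫ c = c')
    {fst' : (yon S).obj W' ⟶ F} {snd' : W' ⟶ V'}
    (sq' : IsPullback fst' ((yon S).map snd') i c') :
    ∃ m : W' ⟶ W, IsPullback m snd' snd k := by
  obtain ⟨m, hm⟩ := (yon S).map_surjective (sq.lift fst' ((yon S).map (snd' ≫ k))
    (by rw [Functor.map_comp, Category.assoc, hk, sq'.w]))
  refine ⟨m, AlgSpace.isPullback_of_yon_map (IsPullback.of_right ?_ ?_ sq)⟩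
  · rw [hm, sq.lift_fst, hk]
    exact sq'
  · rw [hm, sq.lift_snd, Functor.map_comp]

/-- The ideal of a base change between affine schemes is the extended ideal. -/
theorem ker_appTop_eq_map {P X X' Y : Scheme.{u}} {fst : P ⟶ X} {snd : P ⟶ X'} {t : X ⟶ Y}
    {g : X' ⟶ Y} (sq : IsPullback fst snd t g) [IsClosedImmersion t] [IsAffine Y] [IsAffine X'] :
    RingHom.ker snd.appTop.hom = (RingHom.ker t.appTop.hom).map g.appTop.hom := by
  obtain ⟨-, hker⟩ := Groth.Agent.H54.ThickLocal.ker_app_eq_map sq.flip (isAffineOpen_top Y)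
    (isAffineOpen_top X') (le_of_eq (Scheme.Hom.preimage_top _).symm)
  refine hker.trans ?_
  rw [show g.appLE ⊤ ⊤ (le_of_eq (Scheme.Hom.preimage_top _).symm) = g.appTop from
    (Scheme.Hom.app_eq_appLE _).symm]
  rfl

/-- Base changes of first order thickenings to affine schemes have square-zero ideal. -/
theorem ker_sq_of_affine (hi : IsFOThickMor i) (hG : IsAlgSpace G) {V W : Over S}
    [hV : IsAffine V.left] {c : (yon S).obj V ⟶ G} {fst : (yon S).obj W ⟶ F} {snd : W ⟶ V}
    (sq : IsPullback fst ((yon S).map snd) i c) :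
    IsClosedImmersion snd.left ∧ RingHom.ker snd.left.appTop.hom ^ 2 = ⊥ := by
  have hcl : IsClosedImmersion snd.left := (hi.1.2 c fst snd sq).1
  refine ⟨hcl, ?_⟩
  obtain ⟨U, p, hp, hps⟩ := hG.atlas
  have : Etale (hp.1.snd c).left := hp.2 c _ _ (hp.1.isPullback c)
  have : Surjective (hp.1.snd c).left := hps.2 c _ _ (hp.1.isPullback c)
  obtain ⟨r, hr⟩ := (yon S).map_surjective (hp.1.fst c)
  have hchoice : ∀ w : ↥(hp.1.pullback c).left, ∃ (Q : U.left.Opens)
      (O : (hp.1.pullback c).left.Opens), IsAffineOpen Q ∧ IsAffineOpen O ∧ w ∈ O ∧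
        O ≤ r.left ⁻¹ᵁ Q := fun w => by
    obtain ⟨_, ⟨Q, hQ, rfl⟩, hwQ, -⟩ :=
      U.left.isBasis_affineOpens.exists_subset_of_mem_open (Set.mem_univ (r.left w)) isOpen_univ
    obtain ⟨_, ⟨O, hO, rfl⟩, hwO, hOQ⟩ :=
      (hp.1.pullback c).left.isBasis_affineOpens.exists_subset_of_mem_open hwQ
        (r.left ⁻¹ᵁ Q).isOpen
    exact ⟨Q, O, hQ, hO, hwO, hOQ⟩
  choose Q O hQ hO hwO hOQ using hchoice
  rw [pow_two, eq_bot_iff, Ideal.mul_le]
  intro x hx y hy
  refine Ideal.mem_bot.2 (eq_zero_of_flat_cover (fun w => (O w).ι ≫ (hp.1.snd c).left)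
    (fun w => inferInstance) (fun v => ?_) _ fun w => ?_)
  · obtain ⟨w, hw⟩ := (hp.1.snd c).left.surjective v
    exact ⟨w, ⟨w, hwO w⟩, hw⟩
  let Z : Over S := Over.mk ((O w).ι ≫ (hp.1.pullback c).hom)
  let g : Z ⟶ V := (Over.homMk (O w).ι rfl : Z ⟶ hp.1.pullback c) ≫ hp.1.snd c
  let QS : Over S := Over.mk ((Q w).ι ≫ U.hom)
  let k : Z ⟶ QS := Over.homMk (r.left.resLE (Q w) (O w) (hOQ w)) (by
    simp [Z, QS, Scheme.Hom.resLE_comp_ι_assoc])
  let cQ : (yon S).obj QS ⟶ G := (yon S).map (Over.homMk (Q w).ι rfl : QS ⟶ U) ≫ p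
  have hcQ : RepWith @Etale cQ :=
    AlgSpace.repWith_yon_map_comp (inferInstanceAs (Etale (Q w).ι)) hp
  have hk : (yon S).map k ≫ cQ = (yon S).map g ≫ c := by
    simp only [cQ, g, Functor.map_comp, Category.assoc, ← hp.1.w c, ← hr]
    rw [← Functor.map_comp_assoc, ← Functor.map_comp_assoc]
    congr 2
    ext : 1
    exact Scheme.Hom.resLE_comp_ι _ _
  have : IsAffine QS.left := hQ w
  have : IsAffine Z.left := hO w
  have sqQ := hi.1.1.isPullback cQ
  have hclQ : IsClosedImmersion (hi.1.1.snd cQ).left := (hi.1.2 _ _ _ sqQ).1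
  have hQ2 : RingHom.ker (hi.1.1.snd cQ).left.appTop.hom ^ 2 = ⊥ :=
    Yon.ker_appTop_sq_of_ker_mul_ker _ (hi.2 cQ _ _ (hQ w) hcQ sqQ)
  have sqO := hi.1.1.isPullback ((yon S).map g ≫ c)
  obtain ⟨m₁, sq₁⟩ := exists_isPullback_restrict sqQ k hk sqO
  obtain ⟨m₂, sq₂⟩ := exists_isPullback_restrict sq g rfl sqO
  have : IsClosedImmersion ((Over.forget S).map (hi.1.1.snd cQ)) := hclQ
  have : IsClosedImmersion ((Over.forget S).map snd) := hcl
  have : IsAffine ((Over.forget S).obj QS) := hQ w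
  have : IsAffine ((Over.forget S).obj Z) := hO w
  have : IsAffine ((Over.forget S).obj V) := hV
  have e₁ := ker_appTop_eq_map (sq₁.map (Over.forget S))
  have e₂ := ker_appTop_eq_map (sq₂.map (Over.forget S))
  have hO2 : RingHom.ker ((Over.forget S).map (hi.1.1.snd ((yon S).map g ≫ c))).appTop.hom ^ 2 = ⊥ := by
    rw [e₁, ← Ideal.map_pow]
    exact (congrArg _ hQ2).trans Ideal.map_bot
  rw [e₂, pow_two] at hO2
  have := Ideal.mul_mem_mul (Ideal.mem_map_of_mem ((Over.forget S).map g).appTop.hom hx)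
    (Ideal.mem_map_of_mem ((Over.forget S).map g).appTop.hom hy)
  exact (map_mul _ x y).trans (Ideal.mem_bot.1 (hO2.le this))

/-- First order thickenings of algebraic spaces are stable under base change. -/
theorem isFOThickMor_of_isPullback (hi : IsFOThickMor i) (hG : IsAlgSpace G) {F' G' : Sp S}
    {i' : F' ⟶ G'} {p : F' ⟶ F} {q : G' ⟶ G} (sq : IsPullback p i' i q) : IsFOThickMor i' := by
  refine ⟨AlgSpace.repWith_baseChange sq hi.1, fun V W c fst snd hV _ sq' => ?_⟩
  obtain ⟨h₁, h₂⟩ := ker_sq_of_affine (hV := hV) hi hG (sq'.paste_horiz sq)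
  have := hV
  exact Yon.ker_mul_ker_eq_bot snd.left h₂

/-- The base change of a first order thickening to an affine scheme is a first order thickening. -/
theorem isFOThickMor_snd (hi : IsFOThickMor i) (hG : IsAlgSpace G) {V : Over S} [IsAffine V.left]
    (c : (yon S).obj V ⟶ G) : IsFOThickMor ((yon S).map (hi.1.1.snd c)) :=
  isFOThickMor_of_isPullback hi hG (hi.1.1.isPullback c)

end Groth.Agent.Lib.AlgSpFormal.ThickBC
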