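import Groth.Agent.Lib.AlgSpFormal.ThickBC

/-!
# Universal first order thickenings of algebraic spaces
-/

universe u

open CategoryTheory CategoryTheory.Limits AlgebraicGeometry Opposite AlgSp

namespace Groth.Agent.Lib.AlgSpFormal.Univ

variable {S : Scheme.{u}}

/-- The closed subscheme of `Spec A` cut out by an ideal, over `S`. -/
noncomputable abbrev pt {A : Type u} [CommRing A] (str : Spec (CommRingCat.of A) ⟶ S)
    (K : Ideal A) : Over S :=
  Over.mk (Spec.map (CommRingCat.ofHom (Ideal.Quotient.mk K)) ≫ str)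

/-- Inclusions between closed subschemes of `Spec A`, over `S`. -/
noncomputable abbrev ptMap {A : Type u} [CommRing A] (str : Spec (CommRingCat.of A) ⟶ S)
    {K L : Ideal A} (h : K ≤ L) : pt str L ⟶ pt str K :=
  Over.homMk (Spec.map (CommRingCat.ofHom (Ideal.Quotient.factor h))) (by
    change Spec.map _ ≫ Spec.map _ ≫ str = _
    rw [← Spec.map_comp_assoc]
    rfl)

/-- The inclusion of a closed subscheme of `Spec A`, over `S`. -/
noncomputable abbrev ptIncl {A : Type u} [CommRing A] (str : Spec (CommRingCat.of A) ⟶ S)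
    (K : Ideal A) : pt str K ⟶ Over.mk str :=
  Over.homMk (Spec.map (CommRingCat.ofHom (Ideal.Quotient.mk K))) rfl

theorem ptMap_ptIncl {A : Type u} [CommRing A] (str : Spec (CommRingCat.of A) ⟶ S)
    {K L : Ideal A} (h : K ≤ L) : ptMap str h ≫ ptIncl str K = ptIncl str L := by
  ext : 1
  change Spec.map _ ≫ Spec.map _ = _
  rw [← Spec.map_comp]
  rfl

/-- An ideal is square zero if the kernel on global functions of its closed subscheme is. -/
theorem sq_eq_bot_of_ker_appTop {A : Type u} [CommRing A] (J : Ideal A)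
    (h : RingHom.ker (Spec.map (CommRingCat.ofHom (Ideal.Quotient.mk J))).appTop.hom ^ 2 = ⊥) :
    J ^ 2 = ⊥ := by
  rw [pow_two, eq_bot_iff, Ideal.mul_le] at h ⊢
  intro x hx y hy
  have hz : ∀ z ∈ J, (Scheme.ΓSpecIso _).inv z ∈
      RingHom.ker (Spec.map (CommRingCat.ofHom (Ideal.Quotient.mk J))).appTop.hom := by
    intro z hz
    rw [RingHom.mem_ker]
    have h4 := congr($(Scheme.ΓSpecIso_inv_naturality
      (CommRingCat.ofHom (Ideal.Quotient.mk J))).hom z)
    simp only [CommRingCat.hom_comp, RingHom.comp_apply, CommRingCat.hom_ofHom,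
      Ideal.Quotient.eq_zero_iff_mem.mpr hz, map_zero] at h4
    exact h4.symm
  have h2 := Ideal.mem_bot.1 (h _ (hz x hx) _ (hz y hy))
  rw [← map_mul] at h2
  exact Ideal.mem_bot.2 ((map_eq_zero_iff _
    (ConcreteCategory.bijective_of_isIso (Scheme.ΓSpecIso _).inv).1).1 h2)

variable {Z Z' X : Sp S} {h : Z ⟶ X} {i : Z ⟶ Z'} {h' : Z' ⟶ X}

/-- A first order thickening between closed subschemes of `Spec A`. -/
theorem isFOThickMor_ptMap {A : Type u} [CommRing A] (str : Spec (CommRingCat.of A) ⟶ S)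
    {K L : Ideal A} (h : K ≤ L) (hL : L ^ 2 ≤ K) :
    IsFOThickMor ((yon S).map (ptMap str h)) := by
  have hs : Function.Surjective (Ideal.Quotient.factor h) := Ideal.Quotient.factor_surjective h
  have : IsClosedImmersion (ptMap str h).left := IsClosedImmersion.spec_of_surjective _ hs
  have : IsAffine (pt str K).left := inferInstanceAs (IsAffine (Spec _))
  refine Yon.isFOThickMor_yon_map _ (Yon.ker_appTop_specMap_sq _ ?_)
  change RingHom.ker (Ideal.Quotient.factor h) ^ 2 = ⊥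
  rw [Ideal.Quotient.factor_ker, ← Ideal.map_pow]
  exact Ideal.map_eq_bot_iff_le_ker _ |>.2 (by rwa [Ideal.mk_ker])

/-- Two maps into a universal thickening which agree modulo a square-zero ideal `I` agree modulo
`J * I`, where `J` cuts out a closed subscheme mapping to `Z`. -/
theorem agree_step (HU : IsUnivFOThick h i h') {A : Type u} [CommRing A]
    (str : Spec (CommRingCat.of A) ⟶ S) (l l' : (yon S).obj (Over.mk str) ⟶ Z')
    (hl : l ≫ h' = l' ≫ h') (J I : Ideal A) (hJ : J ^ 2 = ⊥) (hI : I ^ 2 = ⊥)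
    (aJ : (yon S).obj (pt str J) ⟶ Z) (haJ : aJ ≫ i = (yon S).map (ptIncl str J) ≫ l)
    (hII : (yon S).map (ptIncl str I) ≫ l = (yon S).map (ptIncl str I) ≫ l') :
    (yon S).map (ptIncl str (J * I)) ≫ l = (yon S).map (ptIncl str (J * I)) ≫ l' := by
  have h₀ : J * I ≤ J ⊔ I :=
    Ideal.mul_le.2 fun x hx y _ => Ideal.mem_sup_left (J.mul_mem_right y hx)
  have hsq : (J ⊔ I) ^ 2 ≤ J * I := by
    have e₁ : J * J = ⊥ := (pow_two J).symm.trans hJ
    have e₂ : I * I = ⊥ := (pow_two I).symm.trans hI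
    rw [pow_two, Ideal.sup_mul, Ideal.mul_sup, Ideal.mul_sup, e₁, e₂, Ideal.mul_comm I J]
    simp
  have hj := isFOThickMor_ptMap str h₀ hsq
  let a₀ : (yon S).obj (pt str (J ⊔ I)) ⟶ Z :=
    (yon S).map (ptMap str (le_sup_left : J ≤ J ⊔ I)) ≫ aJ
  have hr : ∀ {K : Ideal A} (hK : K ≤ J ⊔ I) (m : (yon S).obj (Over.mk str) ⟶ Z'),
      (yon S).map (ptMap str hK) ≫ (yon S).map (ptIncl str K) ≫ m =
        (yon S).map (ptIncl str (J ⊔ I)) ≫ m := fun hK m => by
    rw [← Functor.map_comp_assoc, ptMap_ptIncl]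
  have h₁ : (yon S).map (ptMap str h₀) ≫ (yon S).map (ptIncl str (J * I)) ≫ l = a₀ ≫ i := by
    rw [hr, Category.assoc, haJ, hr]
  have h₂ : (yon S).map (ptMap str h₀) ≫ (yon S).map (ptIncl str (J * I)) ≫ l' = a₀ ≫ i := by
    rw [← h₁, hr, hr, ← hr le_sup_right l', ← hII, hr]
  have hb : (yon S).map (ptMap str h₀) ≫ ((yon S).map (ptIncl str (J * I)) ≫ l) ≫ h' = a₀ ≫ h := by
    rw [← Category.assoc, h₁, Category.assoc, HU.2.1]
  exact (HU.2.2 (IsAlgSpace.yon_obj _) (IsAlgSpace.yon_obj _) _ a₀ _ hj hb).unique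
    ⟨h₁, rfl⟩ ⟨h₂, by simp only [Category.assoc, hl]⟩

/-- The structure map of a universal first order thickening is formally unramified. -/
theorem formallyUnramified_of_univ (HU : IsUnivFOThick h i h') (hZ' : IsAlgSpace Z') :
    IsFormallyUnramifiedMor h' := by
  intro sq l l' h₁ h₂ h₁' h₂'
  have : IsAffine sq.ptT'.left := Yon.isAffine_ptT' sq
  obtain ⟨hcl, hk⟩ := ThickBC.ker_sq_of_affine HU.1 hZ' (HU.1.1.1.isPullback l)
  obtain ⟨J, e, he⟩ := IsClosedImmersion.Spec_iff.mp hcl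
  have : IsClosedImmersion (Spec.map (CommRingCat.ofHom (Ideal.Quotient.mk J))) :=
    IsClosedImmersion.spec_of_surjective _ Ideal.Quotient.mk_surjective
  have hJ : J ^ 2 = ⊥ := by
    apply sq_eq_bot_of_ker_appTop
    refine Yon.ker_appTop_sq_of_ker_mul_ker (t := Spec.map (CommRingCat.ofHom (Ideal.Quotient.mk J))) ?_
    have := Yon.ker_mul_ker_eq_bot _ hk
    rwa [he, Scheme.Hom.ker_comp_of_isIso] at this
  let ι : pt sq.str J ⟶ HU.1.1.1.pullback l := Over.homMk e.inv (by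
    rw [← Over.w (HU.1.1.1.snd l), he]
    simp)
  have hι : ι ≫ HU.1.1.1.snd l = ptIncl sq.str J := by
    ext : 1
    exact (congrArg (e.inv ≫ ·) he).trans (Iso.inv_hom_id_assoc _ _)
  have haJ : ((yon S).map ι ≫ HU.1.1.1.fst l) ≫ i = (yon S).map (ptIncl sq.str J) ≫ l := by
    rw [Category.assoc, HU.1.1.1.w, ← Functor.map_comp_assoc, hι]
  have hll : l ≫ h' = l' ≫ h' := h₂.trans h₂'.symm
  have hI : sq.I ^ 2 = ⊥ := sq.sq_zero
  have e₁ := agree_step HU sq.str l l' hll J sq.I hJ hI _ haJ (h₁.trans h₁'.symm)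
  have hJI : (J * sq.I) ^ 2 = ⊥ := by rw [mul_pow, hI, Ideal.mul_bot]
  have e₂ := agree_step HU sq.str l l' hll J (J * sq.I) hJ hJI _ haJ e₁
  have hbot : J * (J * sq.I) = ⊥ := by
    rw [← Ideal.mul_assoc, ← pow_two, hJ, Ideal.bot_mul]
  have : IsIso (ptIncl sq.str (J * (J * sq.I))) := by
    have : IsIso (CommRingCat.ofHom (Ideal.Quotient.mk (J * (J * sq.I)))) := by
      rw [ConcreteCategory.isIso_iff_bijective]
      exact ⟨(injective_iff_map_eq_zero _).2 fun x hx =>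
        Ideal.mem_bot.1 (hbot.le (Ideal.Quotient.eq_zero_iff_mem.1 hx)),
        Ideal.Quotient.mk_surjective⟩
    have : IsIso ((Over.forget S).map (ptIncl sq.str (J * (J * sq.I)))) :=
      inferInstanceAs (IsIso (Spec.map _))
    exact isIso_of_reflects_iso _ (Over.forget S)
  exact (cancel_epi ((yon S).map (ptIncl sq.str (J * (J * sq.I))))).1 e₂

/-- A map out of the etale base change is determined on charts: base change along etale maps keeps
first order thickenings. -/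
theorem isFOThickMor_etale_pullback {Y Y' W W' : Sp S} {iY : Y ⟶ Y'} (hiY : IsFOThickMor iY)
    {iW : W ⟶ W'} {e : W ⟶ Y} {e' : W' ⟶ Y'} (he' : IsEtaleMor e')
    (sq : IsPullback e iW iY e') : IsFOThickMor iW :=
  ⟨AlgSpace.repWith_baseChange sq hiY.1, fun _ _ c fst snd hV hc sq' =>
    hiY.2 (c ≫ e') (fst ≫ e) snd hV (he' c hc) (sq'.paste_horiz sq)⟩

/-- Universal first order thickenings restrict along etale maps. -/
theorem univ_of_etale {Y Y' W W' X : Sp S} {hY : Y ⟶ X} {iY : Y ⟶ Y'} {hY' : Y' ⟶ X}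
    (HU : IsUnivFOThick hY iY hY') {iW : W ⟶ W'} {e : W ⟶ Y} {e' : W' ⟶ Y'} (he' : IsEtaleMor e')
    (hfe : IsFormallyEtaleMor e') (sq : IsPullback e iW iY e') :
    IsUnivFOThick (e ≫ hY) iW (e' ≫ hY') := by
  refine ⟨isFOThickMor_etale_pullback HU.1 he' sq, ?_, fun T T' hT hT' j a b hj hjb => ?_⟩
  · rw [← reassoc_of% sq.w, HU.2.1]
  · obtain ⟨c, ⟨hc₁, hc₂⟩, hcu⟩ := HU.2.2 hT hT' j (a ≫ e) b hj (hjb.trans (Category.assoc _ _ _).symm)
    have w : j ≫ c = (a ≫ iW) ≫ e' := by rw [hc₁, Category.assoc, Category.assoc, sq.w]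
    obtain ⟨l, ⟨hl₁, hl₂⟩, hlu⟩ := Lift.existsUnique_of_thick hfe hj hT' (a ≫ iW) c w
    refine ⟨l, ⟨hl₁, by rw [reassoc_of% hl₂, hc₂]⟩, fun l' hl' => hlu l' ⟨hl'.1, hcu _ ⟨?_, ?_⟩⟩⟩
    · rw [reassoc_of% hl'.1, Category.assoc, sq.w]
    · rw [Category.assoc]; exact hl'.2

/-- Universal first order thickenings are stable under base change. -/
theorem univ_baseChange {Z X W Y W' P : Sp S} {h : Z ⟶ X} {f : Z ⟶ W} {g : X ⟶ Y} {h' : W ⟶ Y}
    (sq : IsPullback h f g h') {iW : W ⟶ W'} {hW' : W' ⟶ Y} (hW'a : IsAlgSpace W')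
    (HU : IsUnivFOThick h' iW hW') {pX : P ⟶ X} {pW : P ⟶ W'} (sq' : IsPullback pX pW g hW')
    {iZ : Z ⟶ P} (w₁ : iZ ≫ pX = h) (w₂ : iZ ≫ pW = f ≫ iW) : IsUnivFOThick h iZ pX := by
  have sq₁ : IsPullback (iZ ≫ pX) f g (iW ≫ hW') := by rw [w₁, HU.2.1]; exact sq
  have sq₂ : IsPullback iZ f pW iW := IsPullback.of_right sq₁ w₂ sq'
  refine ⟨ThickBC.isFOThickMor_of_isPullback HU.1 hW'a sq₂.flip, w₁,
    fun T T' hT hT' j a b hj hjb => ?_⟩
  obtain ⟨c, ⟨hc₁, hc₂⟩, hcu⟩ := HU.2.2 hT hT' j (a ≫ f) (b ≫ g) hj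
    (by rw [reassoc_of% hjb, sq.w, Category.assoc])
  refine ⟨sq'.lift b c hc₂.symm, ⟨sq'.hom_ext ?_ ?_, sq'.lift_fst _ _ _⟩,
    fun l hl => sq'.hom_ext ?_ ?_⟩
  · rw [Category.assoc, Category.assoc, sq'.lift_fst, w₁, hjb]
  · rw [Category.assoc, Category.assoc, sq'.lift_snd, w₂, hc₁, Category.assoc]
  · rw [sq'.lift_fst, hl.2]
  · rw [sq'.lift_snd]
    refine hcu _ ⟨?_, ?_⟩
    · rw [reassoc_of% hl.1, w₂, Category.assoc]
    · rw [Category.assoc, ← sq'.w, reassoc_of% hl.2]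

end Groth.Agent.Lib.AlgSpFormal.Univ
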