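import Groth.Agent.Lib.AlgSpFormal.Univ
import Groth.Agent.Lib.AlgSpFormal.EtaleLift
import Groth.Agent.Lib.AlgSpFormal.Descend
import Groth.Agent.Lib.AlgSpace.Points

/-!
# Universal first order thickenings descend along etale coverings
-/

universe u

open CategoryTheory CategoryTheory.Limits AlgebraicGeometry Opposite AlgSp

namespace Groth.Agent.Lib.AlgSpFormal.UnivDesc

/-- Etale neighbourhoods lift along square-zero closed subschemes of affine schemes. -/
theorem exists_etale_lift' {T T' : Scheme.{u}} (t : T ⟶ T') [IsClosedImmersion t] [IsAffine T']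
    (hI : RingHom.ker t.appTop.hom ^ 2 = ⊥) {W : Scheme.{u}} (π : W ⟶ T) [Etale π] (w : W) :
    ∃ (B : CommRingCat.{u}) (e : Spec B ⟶ T') (_ : Etale e) (m : pullback t e ⟶ W),
      m ≫ π = pullback.fst t e ∧ w ∈ Set.range m := by
  have hcl : IsClosedImmersion (t ≫ T'.isoSpec.hom) := inferInstance
  obtain ⟨I, ψ, hψ⟩ := IsClosedImmersion.Spec_iff.mp hcl
  have : IsClosedImmersion (Spec.map (CommRingCat.ofHom (Ideal.Quotient.mk I))) :=
    IsClosedImmersion.spec_of_surjective _ Ideal.Quotient.mk_surjective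
  have sq₀ : IsPullback ψ.inv (Spec.map (CommRingCat.ofHom (Ideal.Quotient.mk I))) t
      T'.isoSpec.inv := IsPullback.of_horiz_isIso ⟨by
    rw [← cancel_mono T'.isoSpec.hom, Category.assoc, Category.assoc, hψ, Iso.inv_hom_id_assoc,
      Iso.inv_hom_id, Category.comp_id]⟩
  have hI' : I ^ 2 = ⊥ := by
    apply Univ.sq_eq_bot_of_ker_appTop
    rw [ThickBC.ker_appTop_eq_map sq₀, ← Ideal.map_pow, hI, Ideal.map_bot]
  obtain ⟨B, e, he, m, hm, hwm⟩ := EtaleLift.exists_etale_lift I hI' (π ≫ ψ.hom) w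
  have : IsIso (pullback.map (Spec.map (CommRingCat.ofHom (Ideal.Quotient.mk I))) e t
      (e ≫ T'.isoSpec.inv) ψ.inv (𝟙 _) T'.isoSpec.inv sq₀.w.symm (by simp)) := inferInstance
  let κ := pullback.map (Spec.map (CommRingCat.ofHom (Ideal.Quotient.mk I))) e t
      (e ≫ T'.isoSpec.inv) ψ.inv (𝟙 _) T'.isoSpec.inv sq₀.w.symm (by simp)
  refine ⟨B, e ≫ T'.isoSpec.inv, inferInstance, inv κ ≫ m, ?_, ?_⟩
  · rw [Category.assoc, IsIso.inv_comp_eq, pullback.lift_fst, ← hm]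
    simp
  · obtain ⟨z, rfl⟩ := hwm
    refine ⟨κ z, ?_⟩
    rw [← Scheme.Hom.comp_apply, IsIso.hom_inv_id_assoc]

variable {S : Scheme.{u}}

/-- Etale coverings of a closed subscheme with square-zero ideal of an affine scheme are refined by
restrictions of etale coverings. -/
theorem exists_lift_family {T T' : Over S} (j : T ⟶ T') [IsClosedImmersion j.left]
    [IsAffine T'.left] (hI : RingHom.ker j.left.appTop.hom ^ 2 = ⊥)
    (hj : IsFOThickMor ((yon S).map j)) {U : Over S} {Y : Sp S} {φ : (yon S).obj U ⟶ Y}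
    (hφ : RepWith @Etale φ) (hφs : Function.Surjective (Points.ofPt φ))
    (a : (yon S).obj T ⟶ Y) :
    ∃ (ι : Type u) (Z : ι → Over S) (g : ∀ w, Z w ⟶ T')
      (n : ∀ w, (yon S).obj (hj.1.1.pullback ((yon S).map (g w))) ⟶ (yon S).obj U),
      (∀ w, IsAffine (Z w).left) ∧ (∀ w, Etale (g w).left) ∧
      (∀ t, ∃ w y, (g w).left y = t) ∧
      ∀ w, n w ≫ φ = hj.1.1.fst ((yon S).map (g w)) ≫ a := by
  let W := hφ.1.pullback a
  have : Etale (hφ.1.snd a).left := hφ.2 a _ _ (hφ.1.isPullback a)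
  have hs : ∀ t : ↥T.left, ∃ w : ↥W.left, (hφ.1.snd a).left w = t := fun t => by
    obtain ⟨v, hv⟩ := hφs (Points.ofPt a t)
    obtain ⟨r, hr⟩ := (yon S).map_surjective (hφ.1.fst a)
    have sq := hφ.1.isPullback a
    rw [← hr] at sq
    obtain ⟨w, -, hw⟩ := (AlgSpace.ofPt_eq_ofPt_iff_of_isPullback sq v t).1 hv
    exact ⟨w, hw⟩
  choose B e he m hm hwm using fun w : ↥W.left => exists_etale_lift' j.left hI (hφ.1.snd a).left w
  let Z : ↥W.left → Over S := fun w => Over.mk (e w ≫ T'.hom)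
  let g : ∀ w, Z w ⟶ T' := fun w => Over.homMk (e w) rfl
  have key : ∀ w, ∃ n : (yon S).obj (hj.1.1.pullback ((yon S).map (g w))) ⟶ (yon S).obj U,
      n ≫ φ = hj.1.1.fst ((yon S).map (g w)) ≫ a := fun w => by
    obtain ⟨p, hp⟩ := (yon S).map_surjective (hj.1.1.fst ((yon S).map (g w)))
    have hpq : p ≫ j = hj.1.1.snd ((yon S).map (g w)) ≫ g w := (yon S).map_injective (by
      rw [Functor.map_comp, Functor.map_comp, hp, hj.1.1.w])
    let n₀ : (hj.1.1.pullback ((yon S).map (g w))).left ⟶ W.left :=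
      pullback.lift p.left (hj.1.1.snd ((yon S).map (g w))).left
        (congrArg (fun ψ : hj.1.1.pullback ((yon S).map (g w)) ⟶ T' => ψ.left) hpq) ≫ m w
    have hn₀ : n₀ ≫ (hφ.1.snd a).left = p.left :=
      (Category.assoc _ _ _).trans ((congrArg _ (hm w)).trans (pullback.lift_fst _ _ _))
    let n : hj.1.1.pullback ((yon S).map (g w)) ⟶ W := Over.homMk n₀
      ((congrArg (n₀ ≫ ·) (Over.w (hφ.1.snd a)).symm).trans
        ((Category.assoc _ _ _).symm.trans ((congrArg (· ≫ T.hom) hn₀).trans (Over.w p))))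
    have hn : n ≫ hφ.1.snd a = p := by
      ext : 1
      exact hn₀
    exact ⟨(yon S).map n ≫ hφ.1.fst a, by
      rw [Category.assoc, hφ.1.w, ← Functor.map_comp_assoc, hn, hp]⟩
  choose n hn using key
  refine ⟨↥W.left, Z, g, n, fun w => inferInstanceAs (IsAffine (Spec (B w))), he, fun t => ?_, hn⟩
  have : Surjective j.left := ((isThickMor_yon_map_iff j).1 hj.1).2
  obtain ⟨t₀, rfl⟩ := j.left.surjective t
  obtain ⟨w, rfl⟩ := hs t₀
  obtain ⟨z, hz⟩ := hwm w
  refine ⟨w, pullback.snd j.left (e w) z, ?_⟩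
  refine Eq.trans ?_ (congrArg (fun x => j.left ((hφ.1.snd a).left x)) hz)
  change (pullback.snd j.left (e w) ≫ e w) z = j.left ((m w ≫ (hφ.1.snd a).left) z)
  rw [hm w, ← pullback.condition]
  rfl

variable {Z Z' Y Y' X : Sp S} {e : Z ⟶ Y} {hY : Y ⟶ X} {hY' : Y' ⟶ X} {iZ : Z ⟶ Z'} {iY : Y ⟶ Y'}
  {f' : Z' ⟶ Y'}

theorem unique_affine (hf : IsFormallyEtaleMor f') (hiY : iY ≫ hY' = hY) (w : iZ ≫ f' = e ≫ iY)
    (HU : IsUnivFOThick (e ≫ hY) iZ (f' ≫ hY')) {U : Over S} {z₀ : (yon S).obj U ⟶ Z}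
    (hφ : RepWith @Etale (z₀ ≫ e)) (hφs : Function.Surjective (Points.ofPt (z₀ ≫ e)))
    {T T' : Over S} (j : T ⟶ T') [IsAffine T'.left] (hj : IsFOThickMor ((yon S).map j))
    (a : (yon S).obj T ⟶ Y) (l l' : (yon S).obj T' ⟶ Y') (h₁ : (yon S).map j ≫ l = a ≫ iY)
    (h₁' : (yon S).map j ≫ l' = a ≫ iY) (h₂ : l ≫ hY' = l' ≫ hY') : l = l' := by
  have : IsClosedImmersion j.left := ((isThickMor_yon_map_iff j).1 hj.1).1
  obtain ⟨ι, V, g, n, hV, hg, hgs, hn⟩ := exists_lift_family j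
    (Yon.ker_appTop_sq_of_ker_mul_ker _ (AffLocT.yon_map ‹_› hj.2)) hj hφ hφs a
  refine AlgSpace.hom_ext_of_family V g (AlgSpace.ofArrows_mem_J V g
    (fun x => have := hg x; inferInstance) (fun x => have := hg x; inferInstance) hgs) fun x => ?_
  have := hV x
  have hjx := ThickBC.isFOThickMor_snd hj (IsAlgSpace.yon_obj T') ((yon S).map (g x))
  have key : ∀ m : (yon S).obj T' ⟶ Y', (yon S).map j ≫ m = a ≫ iY →
      (yon S).map (hj.1.1.snd ((yon S).map (g x))) ≫ (yon S).map (g x) ≫ m =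
        ((n x ≫ z₀) ≫ iZ) ≫ f' := fun m hm => by
    rw [← reassoc_of% hj.1.1.w ((yon S).map (g x)), hm, Category.assoc (n x ≫ z₀), w,
      ← Category.assoc (n x ≫ z₀), Category.assoc (n x) z₀ e, hn x, Category.assoc]
  obtain ⟨m, ⟨hm₁, hm₂⟩, -⟩ := Lift.existsUnique_of_thick hf hjx (IsAlgSpace.yon_obj _) _ _ (key l h₁)
  obtain ⟨m', ⟨hm₁', hm₂'⟩, -⟩ :=
    Lift.existsUnique_of_thick hf hjx (IsAlgSpace.yon_obj _) _ _ (key l' h₁')
  have hb : (yon S).map (hj.1.1.snd ((yon S).map (g x))) ≫ (yon S).map (g x) ≫ l ≫ hY' =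
      (n x ≫ z₀) ≫ e ≫ hY := by
    rw [← Category.assoc ((yon S).map (g x)), ← Category.assoc, key l h₁]
    simp only [Category.assoc]
    rw [reassoc_of% w, hiY]
  have hmm : m = m' := (HU.2.2 (IsAlgSpace.yon_obj _) (IsAlgSpace.yon_obj _) _ (n x ≫ z₀) _ hjx hb).unique
    ⟨hm₁, by rw [← Category.assoc, hm₂, Category.assoc]⟩
    ⟨hm₁', by rw [← Category.assoc, hm₂', Category.assoc, h₂]⟩
  rw [← hm₂, hmm, hm₂']

/-- Universal first order thickenings descend along etale coverings. -/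
theorem exists_affine (hf : IsFormallyEtaleMor f') (hiY : iY ≫ hY' = hY) (w : iZ ≫ f' = e ≫ iY)
    (HU : IsUnivFOThick (e ≫ hY) iZ (f' ≫ hY')) {U : Over S} {z₀ : (yon S).obj U ⟶ Z}
    (hφ : RepWith @Etale (z₀ ≫ e)) (hφs : Function.Surjective (Points.ofPt (z₀ ≫ e)))
    {T T' : Over S} (j : T ⟶ T') [IsAffine T'.left] (hj : IsFOThickMor ((yon S).map j))
    (a : (yon S).obj T ⟶ Y) (b : (yon S).obj T' ⟶ X) (hab : (yon S).map j ≫ b = a ≫ hY) :
    ∃ l : (yon S).obj T' ⟶ Y', (yon S).map j ≫ l = a ≫ iY ∧ l ≫ hY' = b := by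
  have : IsClosedImmersion j.left := ((isThickMor_yon_map_iff j).1 hj.1).1
  obtain ⟨ι, V, g, n, hV, hg, hgs, hn⟩ := exists_lift_family j
    (Yon.ker_appTop_sq_of_ker_mul_ker _ (AffLocT.yon_map ‹_› hj.2)) hj hφ hφs a
  let π : AlgSpace.sigmaOver V ⟶ T' := Over.homMk (Sigma.desc fun x => (g x).left)
    (Sigma.hom_ext _ _ fun x => by simp)
  have hπ : ∀ x, AlgSpace.sigmaOverι V x ≫ π = g x := fun x => by
    ext : 1
    exact Sigma.ι_desc (fun x => (g x).left) x
  have hr : HasRingHomProperty (@Etale : MorphismProperty Scheme.{u}) RingHom.Etale :=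
    inferInstance
  have : IsZariskiLocalAtSource (@Etale : MorphismProperty Scheme.{u}) :=
    @HasRingHomProperty.instIsZariskiLocalAtSource _ _ hr
  have hπe : Etale π.left := IsZariskiLocalAtSource.sigmaDesc (P := @Etale) hg
  have hπs : Surjective π.left := ⟨fun t => by
    obtain ⟨x, y, hy⟩ := hgs t
    refine ⟨Sigma.ι (fun x => (V x).left) x y, ?_⟩
    rw [← hπ x] at hy
    exact hy⟩
  have key : ∀ x, ∃ l : (yon S).obj (V x) ⟶ Y',
      (yon S).map (hj.1.1.snd ((yon S).map (g x))) ≫ l =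
          hj.1.1.fst ((yon S).map (g x)) ≫ a ≫ iY ∧
        l ≫ hY' = (yon S).map (g x) ≫ b := fun x => by
    have := hV x
    have hjx := ThickBC.isFOThickMor_snd hj (IsAlgSpace.yon_obj T') ((yon S).map (g x))
    obtain ⟨m, ⟨hm₁, hm₂⟩, -⟩ := HU.2.2 (IsAlgSpace.yon_obj _) (IsAlgSpace.yon_obj _) _
      (n x ≫ z₀) ((yon S).map (g x) ≫ b) hjx (by
        rw [← reassoc_of% hj.1.1.w ((yon S).map (g x)), hab, ← reassoc_of% hn x]
        simp only [Category.assoc])
    refine ⟨m ≫ f', ?_, by rw [Category.assoc, hm₂]⟩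
    rw [reassoc_of% hm₁, w, ← reassoc_of% hn x]
  choose lx hlx hlx' using key
  have hc : ∀ x, (yon S).map (AlgSpace.sigmaOverι V x) ≫ (yon S).map π = (yon S).map (g x) :=
    fun x => by rw [← Functor.map_comp, hπ]
  refine Lift.glue_exists_of_family hj.1.1 hY' (a := a ≫ iY) (fun W c hW _ l l' h₁ h₁' h₂ => ?_)
    V ((yon S).map π) (AlgSpace.repWith_etale_yon_map hπe)
    (AlgSpace.repWith_surjective_yon_map hπs) b lx (fun x => ?_) fun x => ?_
  · have := hW
    exact unique_affine hf hiY w HU hφ hφs _ (ThickBC.isFOThickMor_snd hj (IsAlgSpace.yon_obj T') c)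
      (hj.1.1.fst c ≫ a) l l' (h₁.trans (Category.assoc _ _ _).symm)
      (h₁'.trans (Category.assoc _ _ _).symm) h₂
  · rw [hc x]; exact hlx x
  · rw [hc x]; exact hlx' x

end Groth.Agent.Lib.AlgSpFormal.UnivDesc
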