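import Groth.Agent.Lib.AlgSpFormal.ExactLift
import Groth.Agent.Lib.AlgSpFormal.Charts
import Groth.Agent.Lib.AlgSpace.Points

/-!
# Maps of universal first order thickenings over etale maps are etale
-/

universe u

open CategoryTheory CategoryTheory.Limits AlgebraicGeometry Opposite AlgSp

namespace Groth.Agent.Lib.AlgSpFormal.UnivEtale

variable {S : Scheme.{u}}

/-- Etaleness of a morphism of algebraic spaces can be checked on an etale covering family. -/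
theorem isEtaleMor_of_family {X Y : Sp S} (hX : IsAlgSpace X) (hY : IsAlgSpace Y) (f : X ⟶ Y)
    (H : ∀ p : Points X, ∃ (C : Over S) (a : (yon S).obj C ⟶ X) (c : ↥C.left),
      RepWith @Etale a ∧ RepWith @Etale (a ≫ f) ∧ Points.ofPt a c = p) : IsEtaleMor f := by
  rw [Charts.isEtaleMor_iff_locP hX hY]
  intro A B a b h ha hb w
  have key : ∀ y : ↥A.left, ∃ (P : Over S) (p : P ⟶ A),
      Etale p.left ∧ Etale (p ≫ h).left ∧ y ∈ Set.range p.left := by
    intro y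
    obtain ⟨C, α, c, hα, hαf, hc⟩ := H (Points.ofPt a y)
    obtain ⟨P, p, q, sq⟩ := AlgSpace.exists_isPullback_yon hX.diag a α
    obtain ⟨R, r, r', sqR⟩ := AlgSpace.exists_isPullback_yon hY.diag (α ≫ f) b
    obtain ⟨x, hxp, -⟩ := (AlgSpace.ofPt_eq_ofPt_iff_of_isPullback sq y c).1 hc.symm
    have hp : Etale p.left := AlgSpace.repWith_property hα sq.flip
    have hq : Etale q.left := AlgSpace.repWith_property ha sq
    have hr : Etale r.left := AlgSpace.repWith_property hb sqR.flip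
    have hr' : Etale r'.left := AlgSpace.repWith_property hαf sqR
    obtain ⟨k, hk⟩ := (yon S).map_surjective (sqR.lift ((yon S).map q) ((yon S).map (p ≫ h))
      (by rw [Functor.map_comp, Category.assoc, ← w, reassoc_of% sq.w]))
    have k1 : k ≫ r = q := by
      apply (yon S).map_injective
      rw [Functor.map_comp, hk, sqR.lift_fst]
    have k2 : k ≫ r' = p ≫ h := by
      apply (yon S).map_injective
      rw [Functor.map_comp, hk, sqR.lift_snd]
    have hke : Etale k.left := MorphismProperty.of_postcomp (W := @Etale) (W' := @Etale) k.left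
      r.left hr (by rw [← Over.comp_left, k1]; exact hq)
    exact ⟨P, p, hp, by rw [← k2, Over.comp_left]; infer_instance, x, hxp⟩
  choose P p hp hph hy using key
  have hr : HasRingHomProperty (@Etale : MorphismProperty Scheme.{u}) RingHom.Etale :=
    inferInstance
  have : IsZariskiLocalAtSource (@Etale : MorphismProperty Scheme.{u}) :=
    @HasRingHomProperty.instIsZariskiLocalAtSource _ _ hr
  let π := Sigma.desc fun y => (p y).left
  have hπe : Etale π := IsZariskiLocalAtSource.sigmaDesc (P := @Etale) hp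
  have hπs : Surjective π := ⟨fun y => by
    obtain ⟨x, hx⟩ := hy y
    refine ⟨Sigma.ι (fun y => (P y).left) y x, ?_⟩
    rw [← Scheme.Hom.comp_apply, Sigma.ι_desc, hx]⟩
  refine Groth.Agent.Lib.SourceDescent.Scheme.etale.descends π h.left hπe hπs ?_
  rw [show π ≫ h.left = Sigma.desc fun y => (p y ≫ h).left from
    Sigma.hom_ext _ _ fun y => by simp [π]]
  exact IsZariskiLocalAtSource.sigmaDesc (P := @Etale) hph

/-- A universal thickening over `X` is one over an etale scheme or space over `X`. -/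
theorem univ_cancel {Z Z' U X : Sp S} {f : Z ⟶ U} {w : U ⟶ X} (hw : IsFormallyEtaleMor w)
    {i : Z ⟶ Z'} {h' : Z' ⟶ X} (hZ' : IsAlgSpace Z') (HU : IsUnivFOThick (f ≫ w) i h') :
    ∃ hU : Z' ⟶ U, hU ≫ w = h' ∧ IsUnivFOThick f i hU := by
  obtain ⟨hU, ⟨h₁, h₂⟩, -⟩ := Lift.existsUnique_of_thick hw HU.1 hZ' f h' HU.2.1
  refine ⟨hU, h₂, HU.1, h₁, fun T T' hT hT' j a b hj hjb => ?_⟩
  obtain ⟨a', ⟨ha₁, ha₂⟩, hau⟩ := HU.2.2 hT hT' j a (b ≫ w) hj (by rw [reassoc_of% hjb])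
  refine ⟨a', ⟨ha₁, ?_⟩, fun a'' ha'' => hau a'' ⟨ha''.1, ?_⟩⟩
  · refine Lift.unique_of_thick (Yon.formallyUnramified_of_formallyEtale hw) hj hT' _ _ ?_ ?_
    · rw [reassoc_of% ha₁, h₁, hjb]
    · rw [Category.assoc, h₂, ha₂]
  · rw [← h₂, reassoc_of% ha''.2]

/-- Two universal thickenings are isomorphic. -/
theorem univ_iso {Z Z₁ Z₂ X : Sp S} {h : Z ⟶ X} {i₁ : Z ⟶ Z₁} {h₁ : Z₁ ⟶ X} {i₂ : Z ⟶ Z₂}
    {h₂ : Z₂ ⟶ X} (hZ : IsAlgSpace Z) (hZ₁ : IsAlgSpace Z₁) (hZ₂ : IsAlgSpace Z₂)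
    (H₁ : IsUnivFOThick h i₁ h₁) (H₂ : IsUnivFOThick h i₂ h₂) :
    ∃ δ : Z₁ ⟶ Z₂, IsIso δ ∧ i₁ ≫ δ = i₂ ∧ δ ≫ h₂ = h₁ := by
  obtain ⟨δ, ⟨d₁, d₂⟩, -⟩ :=
    H₂.2.2 hZ hZ₁ i₁ (𝟙 Z) h₁ H₁.1 (H₁.2.1.trans (Category.id_comp _).symm)
  obtain ⟨δ', ⟨e₁, e₂⟩, -⟩ :=
    H₁.2.2 hZ hZ₂ i₂ (𝟙 Z) h₂ H₂.1 (H₂.2.1.trans (Category.id_comp _).symm)
  rw [Category.id_comp] at d₁ e₁
  refine ⟨δ, ⟨δ', ?_, ?_⟩, d₁, d₂⟩
  · exact (H₁.2.2 hZ hZ₁ i₁ (𝟙 Z) h₁ H₁.1 (H₁.2.1.trans (Category.id_comp _).symm)).unique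
      ⟨by rw [reassoc_of% d₁, e₁, Category.id_comp], by rw [Category.assoc, e₂, d₂]⟩
      ⟨by rw [Category.comp_id, Category.id_comp], Category.id_comp _⟩
  · exact (H₂.2.2 hZ hZ₂ i₂ (𝟙 Z) h₂ H₂.1 (H₂.2.1.trans (Category.id_comp _).symm)).unique
      ⟨by rw [reassoc_of% e₁, d₁, Category.id_comp], by rw [Category.assoc, d₂, e₂]⟩
      ⟨by rw [Category.comp_id, Category.id_comp], Category.id_comp _⟩

/-- Exact local etale lifts, over the base. -/
theorem exists_exact_over {T T' : Over S} (t : T ⟶ T') [IsClosedImmersion t.left]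
    [IsAffine T'.left] (hI : RingHom.ker t.left.appTop.hom ^ 2 = ⊥) {W : Over S} (π : W ⟶ T)
    [Etale π.left] (w : ↥W.left) :
    ∃ (B : Over S) (g : B ⟶ T') (P : Over S) (p : P ⟶ T) (q : P ⟶ B) (m : P ⟶ W),
      IsAffine B.left ∧ Etale g.left ∧ IsPullback p q t g ∧ IsOpenImmersion m.left ∧
      m ≫ π = p ∧ w ∈ Set.range m.left := by
  obtain ⟨B, hB, e, he, m, hmo, hm, hw⟩ := ExactLift.exists_exact_lift t.left hI π.left w
  let P : Over S := Over.mk (pullback.fst t.left e ≫ T.hom)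
  let p : P ⟶ T := Over.homMk (pullback.fst t.left e) rfl
  let q : P ⟶ Over.mk (e ≫ T'.hom) := Over.homMk (pullback.snd t.left e) (by
    change _ ≫ e ≫ T'.hom = _ ≫ T.hom
    rw [← pullback.condition_assoc, Over.w t])
  refine ⟨Over.mk (e ≫ T'.hom), Over.homMk e rfl, P, p, q,
    Over.homMk m ((congrArg (m ≫ ·) (Over.w π).symm).trans
      ((Category.assoc _ _ _).symm.trans (congrArg (· ≫ T.hom) hm))), hB, he, ?_, hmo, ?_, hw⟩
  · exact IsPullback.of_map_of_faithful (Over.forget S) (IsPullback.of_hasPullback t.left e)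
  · ext : 1
    exact hm

/-- Near every point, a scheme etale over the closed subspace lifts to an affine scheme etale over
the thickening. -/
theorem exists_chart_lift {F G : Sp S} {i : F ⟶ G} (hi : IsFOThickMor i) (hG : IsAlgSpace G)
    {A : Over S} {β : (yon S).obj A ⟶ F} (hβ : RepWith @Etale β) (a₀ : ↥A.left) :
    ∃ (B : Over S) (cB : (yon S).obj B ⟶ G) (P : Over S) (fst : (yon S).obj P ⟶ F) (snd : P ⟶ B)
      (μ : P ⟶ A) (z : ↥P.left), IsAffine B.left ∧ RepWith @Etale cB ∧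
      IsPullback fst ((yon S).map snd) i cB ∧ Etale μ.left ∧ (yon S).map μ ≫ β = fst ∧
      μ.left z = a₀ := by
  obtain ⟨U, p, hp, hps⟩ := hG.atlas
  obtain ⟨u, hu⟩ := AlgSpace.surjective_ofPt hps (Points.map i (Points.ofPt β a₀))
  obtain ⟨_, ⟨Q, hQ, rfl⟩, huQ, -⟩ :=
    U.left.isBasis_affineOpens.exists_subset_of_mem_open (Set.mem_univ u) isOpen_univ
  let QS : Over S := Over.mk (Scheme.Opens.ι Q ≫ U.hom)
  have : IsAffine QS.left := hQ
  let cQ : (yon S).obj QS ⟶ G := (yon S).map (Over.homMk (Scheme.Opens.ι Q) rfl : QS ⟶ U) ≫ p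
  have hcQ : RepWith @Etale cQ :=
    AlgSpace.repWith_yon_map_comp (inferInstanceAs (Etale (Scheme.Opens.ι Q))) hp
  have sqT := hi.1.1.isPullback cQ
  have : IsClosedImmersion (hi.1.1.snd cQ).left := (hi.1.2 _ _ _ sqT).1
  have hI := Yon.ker_appTop_sq_of_ker_mul_ker _ (hi.2 cQ _ _ hQ hcQ sqT)
  have hW := hβ.1.isPullback (hi.1.1.fst cQ)
  have : Etale (hβ.1.snd (hi.1.1.fst cQ)).left := hβ.2 _ _ _ hW
  obtain ⟨ω, hω⟩ := (yon S).map_surjective (hβ.1.fst (hi.1.1.fst cQ))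
  rw [← hω] at hW
  have : Etale ω.left :=
    AlgSpace.repWith_property (AlgSpace.repWith_baseChange sqT.flip hcQ) hW.flip
  have : Mono i := AlgSpace.mono_of_repWith
    (fun _ _ g (hg : thick g) => haveI := hg.1
      (inferInstanceAs (Mono g) : MorphismProperty.monomorphisms Scheme.{u} g)) hi.1
  have hinj := AlgSpace.injective_map_of_mono i
  have hQu : Points.ofPt cQ ⟨u, huQ⟩ = Points.map i (Points.ofPt β a₀) := by
    rw [← hu]; exact AlgSpace.ofPt_yon_map_comp _ _ _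
  obtain ⟨t, ht⟩ := ((isThickMor_yon_map_iff (hi.1.1.snd cQ)).1
    (AlgSpace.repWith_baseChange sqT hi.1)).2.surj ⟨u, huQ⟩
  have htβ : Points.ofPt β a₀ = Points.ofPt (hi.1.1.fst cQ) t := hinj (by
    rw [Points.map_ofPt (hi.1.1.fst cQ) i, sqT.w, AlgSpace.ofPt_yon_map_comp, ht, hQu])
  obtain ⟨w, hwa, -⟩ := (AlgSpace.ofPt_eq_ofPt_iff_of_isPullback hW a₀ t).1 htβ
  obtain ⟨B, g, P, q₁, q₂, m, hB, hg, sqP, hm, hmπ, ⟨z, hz⟩⟩ :=
    exists_exact_over (hi.1.1.snd cQ) hI (hβ.1.snd (hi.1.1.fst cQ)) w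
  refine ⟨B, (yon S).map g ≫ cQ, P, (yon S).map q₁ ≫ hi.1.1.fst cQ, q₂, m ≫ ω, z, hB,
    AlgSpace.repWith_yon_map_comp hg hcQ, ((AlgSpace.isPullback_yon sqP).flip.paste_vert sqT.flip).flip,
    inferInstanceAs (Etale (m.left ≫ ω.left)), ?_, ?_⟩
  · rw [Functor.map_comp, Category.assoc, hW.w, ← Functor.map_comp_assoc, hmπ]
  · rw [Over.comp_left, Scheme.Hom.comp_apply, hz, hwa]

/-- An open subscheme cut out on the closed subscheme by the thickened scheme. -/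
theorem exists_open_sub {Q P C : Over S} (m : Q ⟶ P) [IsOpenImmersion m.left] (s : P ⟶ C)
    [IsClosedImmersion s.left] [Surjective s.left] :
    ∃ (G : Over S) (ι : G ⟶ C) (k : Q ⟶ G), IsOpenImmersion ι.left ∧ IsPullback m k s ι := by
  have hsb : Function.Bijective s.left :=
    ⟨s.left.isClosedEmbedding.injective, s.left.surjective⟩
  have hopen : IsOpen (s.left '' Set.range m.left) := by
    rw [← isClosed_compl_iff, ← Set.image_compl_eq hsb]
    exact s.left.isClosedEmbedding.isClosedMap _ m.left.isOpenEmbedding.isOpen_range.isClosed_compl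
  let O : C.left.Opens := ⟨_, hopen⟩
  have hsub : Set.range (m.left ≫ s.left) ⊆ Set.range O.ι := by
    rw [Scheme.Opens.range_ι]
    rintro _ ⟨x, rfl⟩
    exact ⟨m.left x, ⟨x, rfl⟩, rfl⟩
  let k₀ := IsOpenImmersion.lift O.ι (m.left ≫ s.left) hsub
  have hk : k₀ ≫ O.ι = m.left ≫ s.left := IsOpenImmersion.lift_fac _ _ _
  let k : Q ⟶ Over.mk (O.ι ≫ C.hom) := Over.homMk k₀ (by
    change k₀ ≫ O.ι ≫ C.hom = _
    rw [reassoc_of% hk, Over.w s, Over.w m])
  refine ⟨Over.mk (O.ι ≫ C.hom), Over.homMk O.ι rfl, k, inferInstanceAs (IsOpenImmersion O.ι), ?_⟩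
  refine IsPullback.of_map_of_faithful (Over.forget S) (IsPullback.flip ?_)
  refine IsOpenImmersion.isPullback k₀ m.left O.ι s.left hk.symm ?_
  rw [Scheme.Opens.opensRange_ι]
  ext x
  constructor
  · rintro ⟨y, hy, e⟩
    rw [← hsb.1 e]
    exact hy
  · exact fun hx => ⟨x, hx, rfl⟩

/-- The map of universal thickenings over etale maps is etale. -/
theorem isEtaleMor_map {Z Z' X V V' U : Sp S} {h : Z ⟶ X} {iZ : Z ⟶ Z'} {hZ' : Z' ⟶ X}
    (HZ : IsUnivFOThick h iZ hZ') (hZ'a : IsAlgSpace Z') (hVa : IsAlgSpace V)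
    (hV'a : IsAlgSpace V') {v : V ⟶ Z} (hv : IsEtaleMor v) {w : U ⟶ X}
    (hw : IsFormallyEtaleMor w) {ψ : V ⟶ U} (c : ψ ≫ w = v ≫ h) {iV : V ⟶ V'} {hV' : V' ⟶ U}
    (HV : IsUnivFOThick ψ iV hV') (e' : V' ⟶ Z') (he₁ : iV ≫ e' = v ≫ iZ)
    (he₂ : e' ≫ hZ' = hV' ≫ w) : IsEtaleMor e' := by
  refine isEtaleMor_of_family hV'a hZ'a e' fun p => ?_
  obtain ⟨p₀, rfl⟩ := AlgSpace.surjective_map
    (AlgSpace.repWith_mono HV.1.1 fun _ _ g (hg : thick g) => hg.2) p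
  obtain ⟨A, α, hα, hαs⟩ := hVa.atlas
  obtain ⟨a₀, rfl⟩ := AlgSpace.surjective_ofPt hαs p₀
  obtain ⟨B, cB, P, fB, sB, μ, zB, hB, hcB, sqB, hμ, hμβ, hzB⟩ :=
    exists_chart_lift HZ.1 hZ'a (hv α hα) a₀
  have hfe : ∀ {Y : Sp S} {D : Over S} {d : (yon S).obj D ⟶ Y}, RepWith @Etale d →
      IsEtaleMor d ∧ IsFormallyEtaleMor d := fun hd =>
    ⟨fun W φ hφ => AlgSpace.repWith_comp hφ hd, Yon.isFormallyEtaleMor_of_etale hd⟩
  have HB := Univ.univ_of_etale HZ (hfe hcB).1 (hfe hcB).2 sqB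
  let β : (yon S).obj P ⟶ V := (yon S).map μ ≫ α
  have hβ : RepWith @Etale β := AlgSpace.repWith_yon_map_comp hμ hα
  have hβf : (β ≫ ψ) ≫ w = fB ≫ h := by
    rw [Category.assoc, c, ← hμβ]
    simp only [β, Category.assoc]
  rw [← hβf] at HB
  obtain ⟨hBU, hBU₂, HB'⟩ := univ_cancel hw (IsAlgSpace.yon_obj B) HB
  obtain ⟨C, cC, R, fC, sC, ρ, zC, hC, hcC, sqC, hρ, hρβ, hzC⟩ :=
    exists_chart_lift HV.1 hV'a hβ zB
  have HC := Univ.univ_of_etale HV (hfe hcC).1 (hfe hcC).2 sqC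
  have hBt := HB'.1
  have : IsClosedImmersion sB.left := ((isThickMor_yon_map_iff sB).1 hBt.1).1
  obtain ⟨D, g, Q, q₁, q₂, m, hD, hg, sqD, hm, hmρ, ⟨zD, hzD⟩⟩ :=
    exists_exact_over sB (Yon.ker_appTop_sq_of_ker_mul_ker _ (AffLocT.yon_map hB hBt.2)) ρ zC
  have hgy : RepWith @Etale ((yon S).map g) := AlgSpace.repWith_etale_yon_map hg
  have HD := Univ.univ_of_etale HB' (hfe hgy).1 (hfe hgy).2 (AlgSpace.isPullback_yon sqD)
  have : IsClosedImmersion sC.left := (HV.1.1.2 cC _ _ sqC).1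
  have : Surjective sC.left := (HV.1.1.2 cC _ _ sqC).2
  obtain ⟨G, ι, k, hι, sqG⟩ := exists_open_sub m sC
  have hιy : RepWith @Etale ((yon S).map ι) := AlgSpace.repWith_etale_yon_map inferInstance
  have HG := Univ.univ_of_etale HC (hfe hιy).1 (hfe hιy).2 (AlgSpace.isPullback_yon sqG)
  have hmf : (yon S).map m ≫ fC = (yon S).map q₁ ≫ β := by
    rw [← hρβ, ← Functor.map_comp_assoc, hmρ]
  have hstr : (yon S).map m ≫ fC ≫ ψ = (yon S).map q₁ ≫ β ≫ ψ := by rw [reassoc_of% hmf]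
  rw [hstr] at HG
  obtain ⟨δ, hδ, hδ₁, hδ₂⟩ :=
    univ_iso (IsAlgSpace.yon_obj Q) (IsAlgSpace.yon_obj G) (IsAlgSpace.yon_obj D) HG HD
  have key : ((yon S).map ι ≫ cC) ≫ e' = δ ≫ (yon S).map g ≫ cB := by
    refine (HZ.2.2 (IsAlgSpace.yon_obj Q) (IsAlgSpace.yon_obj G) ((yon S).map k)
      ((yon S).map m ≫ fC ≫ v) ((yon S).map ι ≫ cC ≫ hV' ≫ w) HG.1 ?_).unique ⟨?_, ?_⟩ ⟨?_, ?_⟩
    · simp only [← Functor.map_comp_assoc, ← sqG.w, Category.assoc, ← c]
      simp only [Functor.map_comp, Category.assoc, ← reassoc_of% sqC.w, reassoc_of% HV.2.1]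
    · simp only [← Functor.map_comp_assoc, ← sqG.w, Category.assoc]
      simp only [Functor.map_comp, Category.assoc, ← reassoc_of% sqC.w, he₁]
    · simp only [Category.assoc, he₂]
    · rw [reassoc_of% hδ₁, ← Functor.map_comp_assoc, ← sqD.w, Functor.map_comp, Category.assoc,
        ← sqB.w, ← hμβ, reassoc_of% hmf]
      simp only [β, Category.assoc]
    · simp only [Category.assoc] at hδ₂ ⊢
      rw [← hBU₂, reassoc_of% hδ₂]
  have : MorphismProperty.ContainsIdentities (@Etale : MorphismProperty Scheme.{u}) :=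
    ⟨fun X => inferInstanceAs (Etale (𝟙 X))⟩
  refine ⟨G, (yon S).map ι ≫ cC, k.left zD,
    AlgSpace.repWith_yon_map_comp (inferInstanceAs (Etale ι.left)) hcC, ?_, ?_⟩
  · rw [key]
    exact AlgSpace.repWith_comp (AlgSpace.repWith_of_isIso _ δ)
      (AlgSpace.repWith_comp hgy hcB)
  · rw [← AlgSpace.ofPt_yon_map_comp, ← Functor.map_comp_assoc, ← sqG.w, Functor.map_comp,
      Category.assoc, ← sqC.w, ← Category.assoc, ← Points.map_ofPt, hmf,
      AlgSpace.ofPt_yon_map_comp]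
    simp only [β]
    rw [AlgSpace.ofPt_yon_map_comp, ← hmρ, Over.comp_left, Scheme.Hom.comp_apply, hzD, hzC, hzB]

end Groth.Agent.Lib.AlgSpFormal.UnivEtale
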